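import Cfsg.Agent.Lib.Modular.Pim
import Cfsg.Agent.Lib.Modular.PimDual
import Cfsg.Agent.Lib.Modular.Lifting
import Cfsg.Agent.Lib.Modular.NormalBlocks
import Cfsg.Agent.Lib.Blocks.Heights
import Cfsg.Agent.Lib.Blocks.PrincipalSection

/-!
# A block all of whose irreducible characters have the same degree

* `charSum`: the sum of the members of the block, a character vanishing off the `p`-regular elements;
* `exists_unique_brauer`: there is one irreducible Brauer character, of that degree, and every member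
  restricts to it;
* `card_defect_le_card`: the order of a defect group is at most the number of members.
-/

set_option autoImplicit false

noncomputable section

namespace CfsgLib.CharBlocks.EqualAbelian

open Cfsg CfsgLib.Blocks CfsgLib.Char CfsgLib.BlockArith CfsgLib.Modular
open scoped ComplexConjugate

attribute [local instance] CfsgLib.Blocks.resField

variable {M : Ideal AlgInt} [M.IsMaximal] {G : Type*} [Group G] [Fintype G] {p : ℕ}

open Classical in
/-- The sum of the members. -/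
def charSum (B : Set (IrrCharacter G)) : G → ℂ :=
  ∑ χ ∈ Finset.univ.filter (· ∈ B), (χ : G → ℂ)

theorem isCharacter_charSum (B : Set (IrrCharacter G)) : IsCharacter G (charSum B) := by
  classical
  exact isCharacter_sum _ fun χ _ => isCharacter_of_isIrr χ.2

open Classical in
theorem classInner_charSum (B : Set (IrrCharacter G)) (χ : IrrCharacter G) :
    classInner (χ : G → ℂ) (charSum B) = if χ ∈ B then 1 else 0 := by
  rw [charSum, classInner_sum_right]
  simp [classInner_irrCharacter, Finset.sum_ite_eq, eq_comm]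

/-- It vanishes at `p`-singular elements. -/
theorem charSum_singular (hM : IsPModular p M) {B : Set (IrrCharacter G)} (hB : IsPBlock M B) {d : ℕ}
    (hd : ∀ χ ∈ B, charDegree (χ : G → ℂ) = d) {g : G} (hg : p ∣ orderOf g) : charSum B g = 0 := by
  classical
  obtain ⟨χ₀, hχ₀⟩ := IsPBlock.nonempty hB
  have hd0 : (d : ℂ) ≠ 0 := by rw [← hd χ₀ hχ₀]; exact_mod_cast charDegree_ne_zero χ₀
  have h := blockCoeff_eq_zero hM hB hg
  rw [blockCoeff_eq, mul_eq_zero, or_iff_right (inv_ne_zero card_ne_zero'), ← Finset.sum_filter,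
    Finset.sum_congr rfl fun χ hχ => by
      rw [← CfsgLib.CharBlocks.coe_charDegree_irr χ, hd χ (Finset.mem_filter.mp hχ).2],
    ← Finset.mul_sum, mul_eq_zero, or_iff_right hd0, ← map_sum] at h
  have h2 := congrArg conj h
  rw [map_zero, Complex.conj_conj] at h2
  rw [charSum, Finset.sum_apply]
  exact h2

theorem classInner_regPart_charSum (hM : IsPModular p M) {B : Set (IrrCharacter G)} (hB : IsPBlock M B)
    {d : ℕ} (hd : ∀ χ ∈ B, charDegree (χ : G → ℂ) = d) (f : G → ℂ) :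
    classInner (pRegularPart p f) (charSum B) = classInner f (charSum B) := by
  classical
  rw [classInner_def, classInner_def]
  refine congrArg _ (Finset.sum_congr rfl fun g _ => ?_)
  rw [pRegularPart_apply]
  split_ifs with hg
  · rw [charSum_singular hM hB hd hg, map_zero, mul_zero, mul_zero]
  · rfl

/-- The pairing with an irreducible Brauer character. -/
theorem classInner_ibr_charSum (hM : IsPModular p M) {B : Set (IrrCharacter G)} (hB : IsPBlock M B)
    {d : ℕ} (hd : ∀ χ ∈ B, charDegree (χ : G → ℂ) = d) {φ : G → ℂ} {B' : Set (IrrCharacter G)}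
    (hB' : IsPBlock M B') (hφ : φ ∈ ibrOf hM B') :
    ∃ z : ℤ, classInner φ (charSum B) = z ∧ (B' = B → φ 1 = (d : ℂ) * z) ∧ (B' ≠ B → z = 0) := by
  classical
  obtain ⟨a, ha⟩ := exists_int_combination hM hB' hφ
  have h1 : ∀ χ ∈ Finset.univ.filter (· ∈ B'),
      classInner ((a χ : ℂ) • pRegularPart p (χ : G → ℂ)) (charSum B) =
        if χ ∈ B then (a χ : ℂ) else 0 := by
    intro χ _
    rw [classInner_smul_left, classInner_regPart_charSum hM hB hd, classInner_charSum, mul_ite, mul_one,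
      mul_zero]
  have hin : classInner φ (charSum B) = ∑ χ ∈ Finset.univ.filter (· ∈ B'),
      if χ ∈ B then (a χ : ℂ) else 0 := by
    rw [ha, classInner_sum_left]
    exact Finset.sum_congr rfl h1
  refine ⟨∑ χ ∈ Finset.univ.filter (· ∈ B'), if χ ∈ B then a χ else 0, ?_, ?_, ?_⟩
  · rw [hin]; push_cast; rfl
  · rintro rfl
    conv_lhs => rw [ha]
    simp only [Finset.sum_apply, Pi.smul_apply, smul_eq_mul, pRegularPart_apply, orderOf_one,
      if_neg hM.1.not_dvd_one]
    push_cast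
    rw [Finset.mul_sum]
    refine Finset.sum_congr rfl fun χ hχ => ?_
    have hmem := (Finset.mem_filter.mp hχ).2
    rw [if_pos hmem, ← CfsgLib.CharBlocks.coe_charDegree_irr χ, hd χ hmem]
    ring
  · intro hne
    refine Finset.sum_eq_zero fun χ hχ => if_neg fun h => hne ?_
    exact isPBlock_eq_of_mem hB' hB (Finset.mem_filter.mp hχ).2 h

/-- **One Brauer character.** -/
theorem exists_unique_brauer (hM : IsPModular p M) {B : Set (IrrCharacter G)} (hB : IsPBlock M B)
    {d : ℕ} (hd : ∀ χ ∈ B, charDegree (χ : G → ℂ) = d) :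
    ∃ ψ ∈ ibrF hM G, ibrOf hM B = {ψ} ∧ ψ 1 = (d : ℂ) ∧ classInner ψ (charSum B) = 1 ∧
      ∀ χ ∈ B, pRegularPart p (χ : G → ℂ) = ψ := by
  classical
  -- multiplicities
  have hpos : ∀ φ ∈ ibrOf hM B, ∃ a : ℕ, 0 < a ∧ classInner φ (charSum B) = (a : ℂ) ∧
      φ 1 = (d : ℂ) * (a : ℂ) := by
    intro φ hφ
    obtain ⟨z, hz, hz1, -⟩ := classInner_ibr_charSum hM hB hd hB hφ
    obtain ⟨n, hn, hn1⟩ := ibr_one_pos hM (ibrOf_subset hM B hφ)
    have h2 := (hn1.symm.trans (hz1 rfl))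
    have h3 : (n : ℤ) = (d : ℤ) * z := by exact_mod_cast h2
    have hzp : 0 < z := pos_of_mul_pos_right (h3 ▸ Int.natCast_pos.mpr hn) (Int.natCast_nonneg d)
    obtain ⟨a, rfl⟩ := Int.eq_ofNat_of_zero_le hzp.le
    exact ⟨a, by exact_mod_cast hzp, by rw [hz]; push_cast; rfl, by rw [hz1 rfl]; push_cast; rfl⟩
  choose! a ha hin h1 using hpos
  have hsum : ∀ χ ∈ B, ∑ φ ∈ ibrOf hM B, dnum hM χ φ * a φ = 1 := by
    intro χ hχ
    have h := classInner_regPart_charSum hM hB hd (χ : G → ℂ)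
    rw [regPart_eq_block hM hχ, classInner_charSum, if_pos hχ, classInner_sum_left,
      Finset.sum_congr rfl fun φ hφ => by rw [classInner_smul_left, hin φ hφ]] at h
    exact_mod_cast h
  have honly : ∀ χ ∈ B, ∀ φ ∈ ibrOf hM B, dnum hM χ φ ≠ 0 →
      dnum hM χ φ = 1 ∧ a φ = 1 ∧ ∀ φ' ∈ ibrOf hM B, φ' ≠ φ → dnum hM χ φ' = 0 := by
    intro χ hχ φ hφ hne
    have h := hsum χ hχ
    rw [← Finset.add_sum_erase _ _ hφ] at h
    have hp1 : 0 < dnum hM χ φ * a φ := Nat.mul_pos (Nat.pos_of_ne_zero hne) (ha φ hφ)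
    have he : dnum hM χ φ * a φ = 1 := by omega
    have hz : ∑ x ∈ (ibrOf hM B).erase φ, dnum hM χ x * a x = 0 := by omega
    refine ⟨Nat.eq_one_of_mul_eq_one_right he, Nat.eq_one_of_mul_eq_one_left he, fun φ' hφ' hne' => ?_⟩
    have := Finset.sum_eq_zero_iff.mp hz φ' (Finset.mem_erase.mpr ⟨hne', hφ'⟩)
    exact (mul_eq_zero.mp this).resolve_right (ha φ' hφ').ne'
  obtain ⟨χ₀, hχ₀⟩ := IsPBlock.nonempty hB
  obtain ⟨ψ, hψ, hψ0⟩ : ∃ φ ∈ ibrOf hM B, dnum hM χ₀ φ ≠ 0 := by
    by_contra hno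
    push Not at hno
    have := hsum χ₀ hχ₀
    rw [Finset.sum_eq_zero fun φ hφ => by rw [hno φ hφ, zero_mul]] at this
    exact zero_ne_one this
  have hψF := ibrOf_subset hM B hψ
  -- the characters over `ψ` form a union of blocks
  have hT : ∀ χ : IrrCharacter G, χ ∈ B → dnum hM χ ψ ≠ 0 := by
    intro χ hχ
    have hB0 : B = blockOf M (χ₀ : G → ℂ) := isPBlock_eq_blockOf hB hχ₀
    have hsub := blockOf_subset_of_linked hM (T := {χ | χ ∈ B ∧ dnum hM χ ψ ≠ 0}) ?_
      (χ := χ₀) ⟨hχ₀, hψ0⟩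
    · exact (hsub (hB0 ▸ hχ)).2
    rintro η ⟨hη, hηψ⟩ ξ φ hφ hd1 hd2
    have hφB : φ ∈ ibrOf hM B := mem_ibrOf.mpr ⟨hφ, η, hη, hd1⟩
    have hξB : ξ ∈ B := by
      by_contra hn
      exact hd2 (dnum_eq_zero_of_notMem hM hB hφB hn)
    have : φ = ψ := by
      by_contra hn
      exact hd1 ((honly η hη ψ hψ hηψ).2.2 φ hφB hn)
    exact ⟨hξB, this ▸ hd2⟩
  have hone := honly χ₀ hχ₀ ψ hψ hψ0
  refine ⟨ψ, hψF, ?_, ?_, ?_, fun χ hχ => ?_⟩
  · refine Finset.eq_singleton_iff_unique_mem.mpr ⟨hψ, fun φ hφ => ?_⟩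
    obtain ⟨-, χ, hχ, hne⟩ := mem_ibrOf.mp hφ
    by_contra hn
    exact hne ((honly χ hχ ψ hψ (hT χ hχ)).2.2 φ hφ hn)
  · rw [h1 ψ hψ, hone.2.1, Nat.cast_one, mul_one]
  · rw [hin ψ hψ, hone.2.1, Nat.cast_one]
  · have h := honly χ hχ ψ hψ (hT χ hχ)
    rw [regPart_eq_block hM hχ, Finset.sum_eq_single ψ
      (fun φ hφ hn => by rw [h.2.2 φ hφ hn, Nat.cast_zero, zero_smul]) (fun hn => absurd hψ hn),
      h.1, Nat.cast_one, one_smul]

/-- The degree times the number of members is divisible by the full `p`-part of the order. -/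
theorem pow_dvd_card_mul (hM : IsPModular p M) {B : Set (IrrCharacter G)} (hB : IsPBlock M B)
    {d : ℕ} (hd : ∀ χ ∈ B, charDegree (χ : G → ℂ) = d) :
    p ^ (Nat.card G).factorization p ∣ Nat.card B * d := by
  classical
  have : Fact p.Prime := ⟨hM.1⟩
  obtain ⟨P⟩ := (inferInstance : Nonempty (Sylow p G))
  have := Fintype.ofFinite (P : Subgroup G)
  obtain ⟨m, hm⟩ := classInner_char_nat (isCharacter_res (P : Subgroup G) (isCharacter_charSum B))
    (isCharacter_of_isIrr (irrOne (G := (P : Subgroup G))).2)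
  have h1 := card_mul_classInner (fun y : (P : Subgroup G) => charSum B y) (irrOne : IrrCharacter (P : Subgroup G))
  rw [hm, Finset.sum_eq_single (1 : (P : Subgroup G))] at h1
  · rw [char_conj_one (isCharacter_of_isIrr (irrOne (G := (P : Subgroup G))).2)] at h1
    rw [show ((irrOne : IrrCharacter ↥(P : Subgroup G)) : ↥(P : Subgroup G) → ℂ) 1 = 1 from rfl, mul_one] at h1
    rw [show ((1 : (P : Subgroup G)) : G) = 1 from rfl, P.card_eq_multiplicity] at h1
    have h2 : charSum B 1 = ((Nat.card B * d : ℕ) : ℂ) := by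
      rw [charSum, Finset.sum_apply, Finset.sum_congr rfl fun χ hχ => by
        rw [← CfsgLib.CharBlocks.coe_charDegree_irr χ, hd χ (Finset.mem_filter.mp hχ).2],
        Finset.sum_const, nsmul_eq_mul, ← Fintype.card_subtype, ← Nat.card_eq_fintype_card]
      push_cast
      rfl
    rw [h2] at h1
    exact ⟨m, by exact_mod_cast h1.symm⟩
  · intro y _ hy
    have hord : p ∣ orderOf (y : G) := by
      obtain ⟨k, hk⟩ := IsPGroup.iff_orderOf.mp P.2 y
      rw [Subgroup.orderOf_coe, hk]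
      refine dvd_pow_self p fun hk0 => hy (orderOf_eq_one_iff.mp ?_)
      rw [hk, hk0, pow_zero]
    rw [charSum_singular hM hB hd hord, zero_mul]
  · simp

theorem card_defect_le_card (hM : IsPModular p M) {B : Set (IrrCharacter G)} (hB : IsPBlock M B)
    {d : ℕ} (hd : ∀ χ ∈ B, charDegree (χ : G → ℂ) = d)
    (h0 : ∀ χ ∈ B, blockHeight p B (χ : G → ℂ) = 0) : p ^ blockDefect p B ≤ Nat.card B := by
  have : Fact p.Prime := ⟨hM.1⟩
  obtain ⟨χ₀, hχ₀⟩ := IsPBlock.nonempty hB
  have hcard : Nat.card B ≠ 0 := by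
    have : Nonempty B := ⟨⟨χ₀, hχ₀⟩⟩
    exact Nat.card_pos.ne'
  have hd0 : d ≠ 0 := hd χ₀ hχ₀ ▸ charDegree_ne_zero χ₀
  have h1 := (hM.1.pow_dvd_iff_le_factorization (Nat.mul_ne_zero hcard hd0)).mp (pow_dvd_card_mul hM hB hd)
  have h2 := degree_height hM hB hχ₀
  rw [hd χ₀ hχ₀, h0 χ₀ hχ₀, add_zero] at h2
  rw [Nat.factorization_mul hcard hd0, Finsupp.add_apply] at h1
  refine Nat.le_of_dvd (Nat.pos_of_ne_zero hcard) ((hM.1.pow_dvd_iff_le_factorization hcard).mpr ?_)
  omega

end CfsgLib.CharBlocks.EqualAbelian
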