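import Cfsg.Agent.Lib.Blocks.CyclicLower
import Cfsg.Agent.Lib.BrauerPairs.Basic
import Cfsg.Agent.Lib.Char.Ortho

/-!
# The dimension of the span of the class sums in a block

* `span_block`: the span of the images of the class sums in a block;
* `finrank_span_block`: its dimension is the number of characters in the block.
-/

set_option autoImplicit false
set_option linter.unusedSectionVars false

noncomputable section

namespace CfsgLib.CharBlocks.EqualAbelian

open Cfsg CfsgLib.Blocks CfsgLib.BrauerPairs

attribute [local instance] CfsgLib.Blocks.resField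
set_option synthInstance.maxHeartbeats 200000

universe u

variable {M : Ideal AlgInt} [M.IsMaximal] {G : Type u} [Group G] [Fintype G] {p : ℕ}

theorem red_central (a : Zint M G) (s : KG M G) : red a * s = s * red a :=
  (Subsemiring.mem_center_iff.mp (red_mem_center a) s).symm

theorem red_mul_idem {B : Set (IrrCharacter G)} (hB : IsPBlock M B) (a : Zint M G) :
    red (a * idem hB) * ridem hB = red (a * idem hB) := by
  have h : red a * (ridem hB * ridem hB) = red a * ridem hB := by rw [ridem_mul_self]
  rw [map_mul red a (idem hB), mul_assoc]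
  exact h

/-- The images of the class sums. -/
def spanBlock {B : Set (IrrCharacter G)} (hB : IsPBlock M B) : Submodule (Res M) (KG M G) :=
  Submodule.span (Res M) (Set.range fun g : G => red (zclass M g * idem hB))

theorem mem_spanBlock_central {B : Set (IrrCharacter G)} (hB : IsPBlock M B) {z : KG M G}
    (hz : z ∈ spanBlock hB) : (∀ s, z * s = s * z) ∧ z * ridem hB = z := by
  induction hz using Submodule.span_induction with
  | mem x hx =>
    obtain ⟨g, rfl⟩ := hx
    exact ⟨red_central (zclass M g * idem hB), red_mul_idem hB (zclass M g)⟩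
  | zero => exact ⟨fun s => by rw [zero_mul, mul_zero], zero_mul _⟩
  | add x y _ _ hx hy =>
    exact ⟨fun s => by rw [add_mul, mul_add, hx.1 s, hy.1 s], by rw [add_mul, hx.2, hy.2]⟩
  | smul c x _ hx =>
    exact ⟨fun s => by rw [smul_mul_assoc, mul_smul_comm, hx.1 s], by rw [smul_mul_assoc, hx.2]⟩

/-- An element with class function coefficients is a combination of class sums. -/
theorem eq_sum_red_zclass [Fintype (ConjClasses G)] {y : KG M G}
    (hy : ∀ g h : G, y.coeff (h * g * h⁻¹) = y.coeff g) :
    y = ∑ C : ConjClasses G, y.coeff C.out • red (zclass M C.out) := by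
  classical
  refine MonoidAlgebra.coeff_injective (Finsupp.ext fun x => ?_)
  rw [MonoidAlgebra.coeff_sum, Finsupp.finsetSum_apply, Finset.sum_eq_single (ConjClasses.mk x)]
  · have hc : IsConj (ConjClasses.mk x).out x := ConjClasses.mk_eq_mk_iff_isConj.mp (Quotient.out_eq _)
    obtain ⟨c, hc'⟩ := isConj_iff.mp hc
    rw [MonoidAlgebra.coeff_smul, Finsupp.smul_apply, coeff_red, rcoeff_zclass, if_pos hc, smul_eq_mul,
      mul_one]
    conv_lhs => rw [← hc']
    exact hy _ c
  · intro C _ hne
    rw [MonoidAlgebra.coeff_smul, Finsupp.smul_apply, coeff_red, rcoeff_zclass, if_neg, smul_zero]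
    exact fun h => hne ((Quotient.out_eq C).symm.trans (ConjClasses.mk_eq_mk_iff_isConj.mpr h))
  · simp

theorem mul_ridem_mem_spanBlock {B : Set (IrrCharacter G)} (hB : IsPBlock M B)
    {y : KG M G} (hy : ∀ g h : G, y.coeff (h * g * h⁻¹) = y.coeff g) :
    y * ridem hB ∈ spanBlock hB := by
  have : Finite (ConjClasses G) := Finite.of_surjective _ ConjClasses.mk_surjective
  have := Fintype.ofFinite (ConjClasses G)
  rw [eq_sum_red_zclass hy, Finset.sum_mul]
  refine Submodule.sum_mem _ fun C _ => ?_
  rw [smul_mul_assoc]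
  exact Submodule.smul_mem _ _ (Submodule.subset_span ⟨C.out, map_mul red _ _⟩)

/-- An independent subfamily of the class sums spans. -/
theorem exists_basis_spanBlock (hM : IsPModular p M) {B : Set (IrrCharacter G)} (hB : IsPBlock M B) :
    ∃ (κ : Type u) (_ : Fintype κ) (v : κ → KG M G),
      Submodule.span (Res M) (Set.range v) = spanBlock hB ∧ LinearIndependent (Res M) v ∧
      Nat.card κ ≤ Nat.card B := by
  classical
  have : Fact p.Prime := ⟨hM.1⟩
  obtain ⟨κ, a, ha, hspan, hli⟩ :=
    exists_linearIndependent' (Res M) (fun g : G => red (zclass M g * idem hB))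
  have := Fintype.ofInjective a ha
  refine ⟨κ, this, _, hspan, hli, ?_⟩
  refine card_le_card_block hB (fun i => zclass M (a i) * idem hB) (fun i => by
    rw [mul_assoc, idem_mul_self]) fun c hc => ?_
  refine funext (Fintype.linearIndependent_iff.mp hli c ?_)
  refine MonoidAlgebra.coeff_injective (Finsupp.ext fun g => ?_)
  rw [MonoidAlgebra.coeff_sum, Finsupp.finsetSum_apply, MonoidAlgebra.coeff_zero]
  refine Eq.trans ?_ (hc g)
  exact Finset.sum_congr rfl fun i _ => rfl

theorem finrank_spanBlock_le (hM : IsPModular p M) {B : Set (IrrCharacter G)} (hB : IsPBlock M B) :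
    Module.finrank (Res M) (spanBlock hB) ≤ Nat.card B := by
  obtain ⟨κ, _, v, hspan, hli, hcard⟩ := exists_basis_spanBlock hM hB
  rw [← hspan, finrank_span_eq_card hli, ← Nat.card_eq_fintype_card]
  exact hcard

/-- **The dimension.** -/
theorem finrank_spanBlock (hM : IsPModular p M) {B : Set (IrrCharacter G)} (hB : IsPBlock M B) :
    Module.finrank (Res M) (spanBlock hB) = Nat.card B := by
  classical
  refine le_antisymm (finrank_spanBlock_le hM hB) ?_
  let T := {B : Set (IrrCharacter G) // IsPBlock M B}
  let _ : Fintype T := Fintype.ofFinite T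
  have : Finite (ConjClasses G) := Finite.of_surjective _ ConjClasses.mk_surjective
  have := Fintype.ofFinite (ConjClasses G)
  choose κ hκ v hspan hli hcard using fun b : T => exists_basis_spanBlock hM b.2
  -- the class sums lie in the joint span
  have hone : ∑ b : T, ridem b.2 = 1 := by
    refine (map_sum red _ _).symm.trans ?_
    rw [← map_one red]
    refine congrArg red (Zint_ext fun η => ?_)
    rw [map_sum, map_one, Finset.sum_eq_single ⟨_, isPBlock_blockOf (M := M) η⟩]
    · rw [zomega_idem, if_pos (mem_blockOf_self η)]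
    · intro b _ hne
      rw [zomega_idem, if_neg]
      exact fun h => hne (Subtype.ext (isPBlock_eq_blockOf b.2 h))
    · simp
  set S : Submodule (Res M) (KG M G) :=
    Submodule.span (Res M) (Set.range fun x : Σ b : T, κ b => v x.1 x.2) with hS
  have hmem : ∀ C : ConjClasses G, red (zclass M C.out) ∈ S := fun C => by
    rw [← mul_one (red (zclass M C.out)), ← hone, Finset.mul_sum]
    refine Submodule.sum_mem _ fun b _ => ?_
    have h1 : red (zclass M C.out) * ridem b.2 ∈ spanBlock b.2 :=
      Submodule.subset_span ⟨C.out, map_mul red _ _⟩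
    rw [← hspan b] at h1
    refine (Submodule.span_mono ?_) h1
    rintro _ ⟨i, rfl⟩
    exact ⟨⟨b, i⟩, rfl⟩
  have hlic : LinearIndependent (Res M) fun C : ConjClasses G => (⟨_, hmem C⟩ : S) := by
    refine LinearIndependent.of_comp S.subtype ?_
    refine Fintype.linearIndependent_iff.mpr fun c hc C => ?_
    have h := congrArg (fun z : KG M G => z.coeff C.out) hc
    simp only [Function.comp_apply, Submodule.coe_subtype, MonoidAlgebra.coeff_sum,
      Finsupp.finsetSum_apply, MonoidAlgebra.coeff_zero, Finsupp.coe_zero, Pi.zero_apply] at h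
    rw [Finset.sum_eq_single C, MonoidAlgebra.coeff_smul, Finsupp.smul_apply, coeff_red, rcoeff_zclass,
      if_pos (IsConj.refl _), smul_eq_mul, mul_one] at h
    · exact h
    · intro C' _ hne
      rw [MonoidAlgebra.coeff_smul, Finsupp.smul_apply, coeff_red, rcoeff_zclass, if_neg, smul_zero]
      exact fun h => hne ((Quotient.out_eq C').symm.trans ((ConjClasses.mk_eq_mk_iff_isConj.mpr h).trans
        (Quotient.out_eq C)))
    · simp
  have h1 : Fintype.card (ConjClasses G) ≤ ∑ b : T, Fintype.card (κ b) := by
    have : Module.Finite (Res M) S := Module.Finite.span_of_finite _ (Set.finite_range _)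
    refine hlic.fintype_card_le_finrank.trans ((finrank_range_le_card _).trans ?_)
    rw [Fintype.card_sigma]
  have h2 : ∑ b : T, Nat.card b.1 = Fintype.card (ConjClasses G) := by
    rw [← Nat.card_eq_fintype_card, ← CfsgLib.Char.card_irr_eq_card_conjClasses, ← Nat.card_sigma]
    refine Nat.card_congr (Equiv.ofBijective (fun x : Σ b : T, b.1 => x.2.1) ⟨?_, fun η => ?_⟩)
    · rintro ⟨⟨b, hb⟩, χ, hχ⟩ ⟨⟨b', hb'⟩, χ', hχ'⟩ h
      dsimp at h
      subst h
      obtain rfl : b = b' := isPBlock_eq_of_mem hb hb' hχ hχ'
      rfl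
    · exact ⟨⟨⟨_, isPBlock_blockOf (M := M) η⟩, η, mem_blockOf_self η⟩, rfl⟩
  have h3 : ∀ b : T, Fintype.card (κ b) = Module.finrank (Res M) (spanBlock b.2) := fun b => by
    rw [← hspan b, finrank_span_eq_card (hli b)]
  by_contra hlt
  have h4 : ∑ b : T, Fintype.card (κ b) < ∑ b : T, Nat.card b.1 := by
    refine Finset.sum_lt_sum (fun b _ => (Nat.card_eq_fintype_card (α := κ b)) ▸ hcard b) ⟨⟨B, hB⟩, Finset.mem_univ _, ?_⟩
    rw [h3]
    exact not_le.mp hlt
  omega

end CfsgLib.CharBlocks.EqualAbelian
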