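import Cfsg.Agent.Lib.CharBlocks.EqualAbelian.Idem
import Cfsg.Agent.Lib.Blocks.Defect

/-!
# The class sums of the idempotent vanish off the centraliser of a defect group

* `coeff_one_eq_zero`: a central element vanishing on the centraliser of a defect group is orthogonal
  to the idempotent.
-/

set_option autoImplicit false
set_option linter.unusedSectionVars false

noncomputable section

namespace CfsgLib.CharBlocks.EqualAbelian

open Cfsg CfsgLib.Blocks CfsgLib.Char CfsgLib.BlockArith CfsgLib.Modular CfsgLib.BrauerPairs CfsgLib.CharBlocks.EqualDegree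
open scoped ComplexConjugate

attribute [local instance] CfsgLib.Blocks.resField
set_option synthInstance.maxHeartbeats 200000

variable {M : Ideal AlgInt} [M.IsMaximal] {G : Type*} [Group G] [Fintype G] {p : ℕ}

open Classical in
/-- The class sums of an element with traces one on the block and zero elsewhere. -/
theorem card_mul_classSum {B : Set (IrrCharacter G)} {E : OG M G}
    (hE : ∀ χ : IrrCharacter G, (χ ∈ B → ∑ x, (E.coeff x : ℂ) * (χ : G → ℂ) x = 1) ∧
      (χ ∉ B → ∑ x, (E.coeff x : ℂ) * (χ : G → ℂ) x = 0)) (h : G) :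
    (Nat.card (Subgroup.centralizer ({h} : Set G)) : ℂ) *
      ((∑ x ∈ Finset.univ.filter (IsConj h ·), E.coeff x : locRing M) : ℂ) = conj (charSum B h) := by
  have h2 : ∀ x, (if IsConj h x then (Nat.card (Subgroup.centralizer ({h} : Set G)) : ℂ) else 0) =
      ∑ χ : IrrCharacter G, (χ : G → ℂ) x * conj ((χ : G → ℂ) h) := fun x => by
    have := congrArg conj (second_orthogonality h x)
    rw [map_sum, apply_ite conj, map_natCast, map_zero] at this
    rw [← this]
    exact Finset.sum_congr rfl fun χ _ => by rw [map_mul, Complex.conj_conj, mul_comm]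
  calc _ = ∑ x, (E.coeff x : ℂ) * (if IsConj h x then
        (Nat.card (Subgroup.centralizer ({h} : Set G)) : ℂ) else 0) := by
        rw [AddSubmonoidClass.coe_finsetSum, Finset.mul_sum, Finset.sum_filter]
        exact Finset.sum_congr rfl fun x _ => by split_ifs <;> ring
    _ = ∑ χ : IrrCharacter G, (∑ x, (E.coeff x : ℂ) * (χ : G → ℂ) x) * conj ((χ : G → ℂ) h) := by
        rw [Finset.sum_congr rfl fun x _ => by rw [h2 x, Finset.mul_sum], Finset.sum_comm]
        exact Finset.sum_congr rfl fun χ _ => by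
          rw [Finset.sum_mul]; exact Finset.sum_congr rfl fun x _ => by ring
    _ = ∑ χ ∈ Finset.univ.filter (· ∈ B), conj ((χ : G → ℂ) h) := by
        rw [Finset.sum_filter]
        refine Finset.sum_congr rfl fun χ _ => ?_
        split_ifs with hχ
        · rw [(hE χ).1 hχ, one_mul]
        · rw [(hE χ).2 hχ, zero_mul]
    _ = _ := by rw [charSum, Finset.sum_apply, map_sum]

open Classical in
/-- They vanish modulo `M` away from the centraliser of a defect group. -/
theorem classSum_eq_zero (hM : IsPModular p M) {B : Set (IrrCharacter G)} (hB : IsPBlock M B) {d : ℕ}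
    (hd : ∀ χ ∈ B, charDegree (χ : G → ℂ) = d) {ψ : G → ℂ}
    (hreg : ∀ χ ∈ B, pRegularPart p (χ : G → ℂ) = ψ) {E : OG M G}
    (hE : ∀ χ : IrrCharacter G, (χ ∈ B → ∑ x, (E.coeff x : ℂ) * (χ : G → ℂ) x = 1) ∧
      (χ ∉ B → ∑ x, (E.coeff x : ℂ) * (χ : G → ℂ) x = 0))
    {D : Subgroup G} (hD : IsDefectGroup p M B D) {h : G}
    (hh : ∀ x, IsConj h x → x ∉ Subgroup.centralizer (D : Set G)) :
    ∑ x ∈ Finset.univ.filter (IsConj h ·), (redO M G E).coeff x = 0 := by
  have : Fact p.Prime := ⟨hM.1⟩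
  have : CharP (Res M) p := res_charP M hM
  simp only [coeff_redO, ← map_sum]
  set S : locRing M := ∑ x ∈ Finset.univ.filter (IsConj h ·), E.coeff x with hS
  have hkey := card_mul_classSum hE h
  rw [← hS] at hkey
  have hC0 : (Nat.card (Subgroup.centralizer ({h} : Set G)) : ℂ) ≠ 0 := by
    exact_mod_cast Nat.card_pos.ne'
  by_cases hsing : p ∣ orderOf h
  · rw [charSum_singular hM hB hd hsing, map_zero, mul_eq_zero, or_iff_right hC0] at hkey
    rw [show S = 0 from Subtype.ext hkey, map_zero]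
  obtain ⟨χ₀, hχ₀⟩ := IsPBlock.nonempty hB
  obtain ⟨y, hy, hyD⟩ := isDefectGroup_iff.mp hD
  have hb : bomega χ₀ (zclass M h⁻¹) = 0 := by
    by_contra hne
    obtain ⟨c, hc, hcD⟩ := exists_conj_mem_centralizer hM hB hχ₀ hne hyD.isPGroup hyD.mem_centralizer
      ((isDefectClass_iff hB hχ₀ y).mp hy).1
    obtain ⟨w, rfl⟩ := isConj_iff.mp hc
    refine hh (w * h * w⁻¹) (isConj_iff.mpr ⟨w, rfl⟩) ?_
    have := Subgroup.inv_mem _ hcD
    simpa [mul_assoc] using this
  have hsum : conj (charSum B h) = (Nat.card B : ℂ) * (χ₀ : G → ℂ) h⁻¹ := by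
    have hval : ∀ χ ∈ Finset.univ.filter (· ∈ B), conj ((χ : G → ℂ) h) = (χ₀ : G → ℂ) h⁻¹ := by
      intro χ hχ
      have h1 := congrFun ((hreg χ (Finset.mem_filter.mp hχ).2).trans (hreg χ₀ hχ₀).symm) h
      rw [pRegularPart_apply, pRegularPart_apply, if_neg hsing, if_neg hsing] at h1
      rw [char_inv (isCharacter_of_isIrr χ₀.2), h1]
    rw [charSum, Finset.sum_apply, map_sum, Finset.sum_congr rfl hval, Finset.sum_const, nsmul_eq_mul,
      ← Fintype.card_subtype, ← Nat.card_eq_fintype_card]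
  obtain ⟨q, hq⟩ := pow_dvd_card_mul hM hB hd
  set pa := p ^ (Nat.card G).factorization p
  have hcent : Subgroup.centralizer ({h⁻¹} : Set G) = Subgroup.centralizer ({h} : Set G) := by
    ext x
    rw [Subgroup.mem_centralizer_singleton_iff, Subgroup.mem_centralizer_singleton_iff]
    exact Commute.inv_right_iff (a := x) (b := h)
  have hz := coe_zomega_zclass' (M := M) χ₀ h⁻¹
  rw [hcent, hd χ₀ hχ₀] at hz
  have hG : (Nat.card (Subgroup.centralizer ({h} : Set G)) : ℂ) *
      ((Subgroup.centralizer ({h} : Set G)).index : ℂ) = (pa : ℂ) * (pm p G : ℂ) := by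
    rw [← Nat.cast_mul, ← Nat.cast_mul, Subgroup.card_mul_index, pm, Nat.ordProj_mul_ordCompl_eq_self]
  have hq' : (Nat.card B : ℂ) * (d : ℂ) = (pa : ℂ) * (q : ℂ) := by exact_mod_cast hq
  have hfin : S * (pm p G : locRing M) = (q : locRing M) * zomega χ₀ (zclass M h⁻¹) := by
    refine Subtype.ext ?_
    push_cast
    have hpa : (pa : ℂ) ≠ 0 := by exact_mod_cast pow_ne_zero _ hM.1.ne_zero
    refine mul_left_cancel₀ hpa ?_
    rw [hsum] at hkey
    linear_combination (((Subgroup.centralizer ({h} : Set G)).index : ℂ)) * hkey -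
      (S : ℂ) * hG - (Nat.card B : ℂ) * hz + ((zomega χ₀ (zclass M h⁻¹) : locRing M) : ℂ) * hq'
  have h1 := congrArg (res M) hfin
  rw [map_mul, map_mul, map_natCast, map_natCast, ← bomega_apply, hb, mul_zero, mul_eq_zero] at h1
  exact h1.resolve_right fun h0 => not_dvd_pm (G := G) hM.1 ((CharP.cast_eq_zero_iff (Res M) p _).mp h0)

open Classical in
/-- A central element vanishing on the centraliser of a defect group is orthogonal to the idempotent. -/
theorem coeff_one_eq_zero (hM : IsPModular p M) {B : Set (IrrCharacter G)} (hB : IsPBlock M B) {d : ℕ}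
    (hd : ∀ χ ∈ B, charDegree (χ : G → ℂ) = d) {ψ : G → ℂ}
    (hreg : ∀ χ ∈ B, pRegularPart p (χ : G → ℂ) = ψ) {E : OG M G}
    (hE : ∀ χ : IrrCharacter G, (χ ∈ B → ∑ x, (E.coeff x : ℂ) * (χ : G → ℂ) x = 1) ∧
      (χ ∉ B → ∑ x, (E.coeff x : ℂ) * (χ : G → ℂ) x = 0))
    {D : Subgroup G} (hD : IsDefectGroup p M B D) {z : MonoidAlgebra (Res M) G}
    (hz : ∀ s, z * s = s * z) (hzC : ∀ g, g ∈ Subgroup.centralizer (D : Set G) → z.coeff g = 0) :
    (z * redO M G E).coeff 1 = 0 := by
  have hcls := (mem_center_iff z).mp (Subsemiring.mem_center_iff.mpr fun s => (hz s).symm)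
  let _ : Fintype (ConjClasses G) := Fintype.ofFinite _
  rw [coeff_mul_eq_sum, ← Finset.sum_fiberwise Finset.univ ConjClasses.mk]
  refine Finset.sum_eq_zero fun C _ => ?_
  obtain ⟨h, rfl⟩ := ConjClasses.mk_surjective C
  by_cases hcase : ∃ x, IsConj h x ∧ x ∈ Subgroup.centralizer (D : Set G)
  · obtain ⟨w, hw, hwD⟩ := hcase
    refine Finset.sum_eq_zero fun x hx => ?_
    have hxh : IsConj x h := ConjClasses.mk_eq_mk_iff_isConj.mp (Finset.mem_filter.mp hx).2
    obtain ⟨c, hc⟩ := isConj_iff.mp (hxh.trans hw)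
    rw [← hcls x c, hc, hzC w hwD, zero_mul]
  · push Not at hcase
    have h1 := classSum_eq_zero hM hB hd hreg hE hD (h := h⁻¹) fun x hx hxD => by
      obtain ⟨c, rfl⟩ := isConj_iff.mp hx
      refine hcase (c * h * c⁻¹) (isConj_iff.mpr ⟨c, rfl⟩) ?_
      have := Subgroup.inv_mem _ hxD
      simpa [mul_assoc] using this
    have h2 : ∀ x ∈ Finset.univ.filter (fun x => ConjClasses.mk x = ConjClasses.mk h),
        z.coeff x * (redO M G E).coeff (x⁻¹ * 1) = z.coeff h * (redO M G E).coeff x⁻¹ := by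
      intro x hx
      obtain ⟨c, hc⟩ := isConj_iff.mp (ConjClasses.mk_eq_mk_iff_isConj.mp (Finset.mem_filter.mp hx).2)
      rw [mul_one, ← hcls x c, hc]
    rw [Finset.sum_congr rfl h2, ← Finset.mul_sum]
    refine mul_eq_zero_of_right _ (Eq.trans ?_ h1)
    refine Finset.sum_equiv (Equiv.inv G) (fun x => ?_) fun x _ => rfl
    simp only [Finset.mem_filter, Finset.mem_univ, true_and, Equiv.inv_apply,
      ConjClasses.mk_eq_mk_iff_isConj]
    constructor
    · intro hx
      obtain ⟨c, hc⟩ := isConj_iff.mp hx.symm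
      exact isConj_iff.mpr ⟨c, by rw [← hc]; group⟩
    · intro hx
      obtain ⟨c, hc⟩ := isConj_iff.mp hx.symm
      exact isConj_iff.mpr ⟨c, by rw [← inv_inv h, ← hc]; group⟩

end CfsgLib.CharBlocks.EqualAbelian
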