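import Cfsg.Agent.Lib.CharBlocks.EqualAbelian.Simple
import Cfsg.Agent.Lib.CharBlocks.EqualDegree.Push
import Cfsg.Agent.Lib.CharBlocks.EqualDegree.Block
import Cfsg.Agent.Lib.Modular.TraceForm

/-!
# A primitive idempotent generating a block with one Brauer character and equal degrees

* `exists_core`: an idempotent `f` of rank one modulo the centre, with the block spanned over the centre
  by the `a i * f * b j`.
-/

set_option autoImplicit false
set_option linter.unusedSectionVars false

noncomputable section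

namespace CfsgLib.CharBlocks.EqualAbelian

open Cfsg CfsgLib.Blocks CfsgLib.Char CfsgLib.BlockArith CfsgLib.Modular CfsgLib.BrauerPairs CfsgLib.CharBlocks.EqualDegree
open scoped Matrix

attribute [local instance] CfsgLib.Blocks.resField
set_option synthInstance.maxHeartbeats 200000

section ring

variable {R : Type*} [Ring R] {ι : Type*} [Fintype ι]

/-- `traceMap r * W` is central. -/
theorem central_traceMap {E f W : R} {a b : ι → R}
    (hEc : ∀ s, E * s = s * E) (hfE : f * E = f) (hWE : W * E = W)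
    (hYW : unitSum f a b * W = E)
    (hz1 : ∀ r s, traceMap f a b r * s * unitSum f a b = unitSum f a b * s * traceMap f a b r)
    (r s : R) : traceMap f a b r * W * s = s * (traceMap f a b r * W) := by
  set Y := unitSum f a b with hY
  set z := traceMap f a b r with hz
  have hzE : z * E = z := by
    rw [hz, traceMap, Finset.sum_mul]
    refine Finset.sum_congr rfl fun k _ => ?_
    calc a k * (f * r * f) * b k * E = a k * (f * r * (f * E)) * b k := by
          rw [mul_assoc, ← hEc (b k)]; simp only [mul_assoc]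
      _ = a k * (f * r * f) * b k := by rw [hfE]
  calc z * W * s = z * (W * s) := mul_assoc _ _ _
    _ = z * (W * s * E) := by rw [mul_assoc W s E, ← hEc s, ← mul_assoc W E s, hWE]
    _ = z * (W * s) * Y * W := by rw [← hYW]; simp only [mul_assoc]
    _ = Y * (W * s) * z * W := by rw [hz1]
    _ = E * s * z * W := by rw [← hYW]; simp only [mul_assoc]
    _ = s * (E * z) * W := by rw [hEc s]; simp only [mul_assoc]
    _ = s * (z * W) := by rw [hEc z, hzE, mul_assoc]

end ring

variable {M : Ideal AlgInt} [M.IsMaximal] {G : Type*} [Group G] [Fintype G] {p : ℕ}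

theorem rankOne_mul {m : Type*} [Fintype m] {F : Matrix m m ℂ} (hF : RankOne F) (Z : Matrix m m ℂ) :
    RankOne (F * Z) := fun X => by
  obtain ⟨w, hw⟩ := hF (Z * X)
  exact ⟨w, by rw [show F * Z * X * (F * Z) = F * (Z * X) * F * Z by simp only [mul_assoc], hw,
    smul_mul_assoc]⟩

/-- A third identity modulo `M`. -/
theorem identity_three {ι : Type*} [Fintype ι] (n : IrrCharacter G → ℕ)
    (A : ∀ χ : IrrCharacter G, G →* Matrix (Fin (n χ)) (Fin (n χ)) (locRing M))
    (hA : ∀ χ g, (((A χ g).trace : locRing M) : ℂ) = (χ : G → ℂ) g) {f : OG M G} (a b : ι → OG M G)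
    (hf : ∀ χ, RankOne (repO (A χ) f)) (r : MonoidAlgebra (Res M) G) :
    unitSum (redO M G f) (redO M G ∘ a) (redO M G ∘ b) * (redO M G f * r * redO M G f) =
      traceMap (redO M G f) (redO M G ∘ a) (redO M G ∘ b) r * redO M G f := by
  obtain ⟨r, rfl⟩ := redO_surjective r
  have h : unitSum f a b * (f * r * f) = traceMap f a b r * f := by
    refine sub_eq_zero.mp (eq_zero_of_repO n A hA fun χ => ?_)
    rw [map_sub, sub_eq_zero]
    simp only [map_mul, map_traceMap, map_unitSum]
    obtain ⟨w, hw⟩ := hf χ (repO (A χ) r)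
    rw [hw]
    simp [traceMap, unitSum, hw, Finset.sum_mul, Finset.smul_sum]
  have h' := congrArg (redO M G) h
  simpa only [map_mul, map_traceMap, map_unitSum] using h'

/-- A matrix unit as an endomorphism. -/
def eU {m : ℕ} (M : Ideal AlgInt) [M.IsMaximal] (i j : Fin (m + 1)) :
    Module.End (Res M) (Fin (m + 1) → Res M) :=
  Matrix.toLin' (Matrix.single i j 1)

theorem eU_mul {m : ℕ} (i j k l : Fin (m + 1)) :
    eU M i j * eU M k l = if j = k then eU M i l else 0 := by
  rw [eU, eU, eU, Module.End.mul_eq_comp, ← Matrix.toLin'_mul]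
  split_ifs with h
  · subst h; simp
  · rw [Matrix.single_mul_single_of_ne (1 : Res M) i _ _ h, map_zero]

theorem sum_eU {m : ℕ} : ∑ i : Fin (m + 1), eU M i i = 1 := by
  simp only [eU, ← map_sum]
  rw [show ∑ i : Fin (m + 1), Matrix.single i i (1 : Res M) = 1 by
    ext a b
    rw [Matrix.sum_apply, Finset.sum_eq_single a (fun c _ hc => by simp [hc])
      (fun hn => absurd (Finset.mem_univ _) hn)]
    simp [Matrix.single_apply, Matrix.one_apply]]
  exact Matrix.toLin'_one

theorem trace_eU {m : ℕ} : LinearMap.trace (Res M) _ (eU M (0 : Fin (m + 1)) 0) = 1 := by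
  rw [eU, Matrix.trace_toLin'_eq]
  simp

theorem charpoly_eU {m : ℕ} :
    (eU M (0 : Fin (m + 1)) 0).charpoly = (Polynomial.X - 1) * Polynomial.X ^ m := by
  rw [eU, Matrix.charpoly_toLin', ← Matrix.diagonal_single, Matrix.charpoly_diagonal, Fin.prod_univ_succ]
  simp [Fin.succ_ne_zero]

theorem toLin'_repR {n : ℕ} (A : G →* Matrix (Fin n) (Fin n) (locRing M)) (y : MonoidAlgebra (Res M) G) :
    Matrix.toLin' (repR A y) = (redRep A).asAlgebraHom y := by
  induction y using MonoidAlgebra.induction_on with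
  | of g =>
    rw [Representation.asAlgebraHom_of, repR, MonoidAlgebra.lift_of]
    rfl
  | add a b iha ihb => rw [map_add, map_add, map_add, iha, ihb]
  | smul c a ih => rw [map_smul, map_smul, map_smul, ih]

theorem asAlgebraHom_conj {V W : Type*} [AddCommGroup V] [Module (Res M) V] [AddCommGroup W]
    [Module (Res M) W] {ρ : Representation (Res M) G V} {σ : Representation (Res M) G W}
    (e : V ≃ₗ[Res M] W) (he : ∀ g v, e (ρ g v) = σ g (e v)) (r : MonoidAlgebra (Res M) G) :
    σ.asAlgebraHom r = e.conj (ρ.asAlgebraHom r) := by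
  refine LinearMap.ext fun w => ?_
  rw [LinearEquiv.conj_apply_apply, ← LinearEquiv.coe_toLinearMap, asAlgebraHom_comm _ he,
    LinearEquiv.coe_toLinearMap, LinearEquiv.apply_symm_apply]

theorem conj_eq_zero {V W : Type*} [AddCommGroup V] [Module (Res M) V] [AddCommGroup W]
    [Module (Res M) W] (e : V ≃ₗ[Res M] W) {f : Module.End (Res M) V} (h : e.conj f = 0) : f = 0 :=
  e.conj.injective (h.trans (map_zero _).symm)

/-- A rank one idempotent has trace one. -/
theorem trace_of_rankOne {n : Type*} [Fintype n] [DecidableEq n] {F : Matrix n n ℂ} (hF : RankOne F)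
    (hFF : F * F = F) (hF0 : F ≠ 0) : F.trace = 1 := by
  obtain ⟨i, j, hij⟩ : ∃ i j, F i j ≠ 0 := by
    by_contra hall
    push Not at hall
    exact hF0 (Matrix.ext hall)
  choose w hw using fun k => hF (Matrix.single k i 1)
  have h1 : ∀ a k, F a k * F i j = w k * F a j := fun a k => by
    have h := congrFun (congrFun (hw k) a) j
    rw [Matrix.smul_apply, smul_eq_mul, Matrix.mul_apply, Finset.sum_eq_single i
      (fun b _ hb => by simp [Matrix.mul_apply, Matrix.single_apply, Ne.symm hb])
      (fun hn => absurd (Finset.mem_univ _) hn)] at h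
    rw [← h]
    simp [Matrix.mul_apply, Matrix.single_apply]
  have h2 : ∀ k, w k = F i k := fun k => (mul_right_cancel₀ hij (h1 i k)).symm
  refine mul_right_cancel₀ hij ?_
  rw [one_mul, Matrix.trace, Finset.sum_mul]
  have h3 := congrFun (congrFun hFF i) j
  rw [Matrix.mul_apply] at h3
  rw [← h3]
  refine Finset.sum_congr rfl fun a _ => ?_
  rw [Matrix.diag_apply, h3, h1, h2]

/-- An element that squares to a multiple of itself, times a polynomial in it. -/
theorem mul_aeval_of_sq {R S : Type*} [CommRing R] [Ring S] [Algebra R S] {F : S} {w : R}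
    (h : F * F = w • F) (g : Polynomial R) : F * Polynomial.aeval F g = g.eval w • F := by
  induction g using Polynomial.induction_on with
  | C a => rw [Polynomial.aeval_C, Polynomial.eval_C, ← Algebra.commutes, Algebra.smul_def]
  | add u v hu hv => rw [map_add, mul_add, hu, hv, Polynomial.eval_add, add_smul]
  | monomial k a ih =>
    rw [pow_succ, ← mul_assoc, map_mul, Polynomial.aeval_X, ← mul_assoc, ih, smul_mul_assoc, h, smul_smul,
      Polynomial.eval_mul_X]

set_option maxHeartbeats 1000000 in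
/-- **The idempotent.** -/
theorem exists_core (hM : IsPModular p M) {B : Set (IrrCharacter G)} (hB : IsPBlock M B) {m : ℕ}
    (hd : ∀ χ ∈ B, charDegree (χ : G → ℂ) = m + 1) {ψ : G → ℂ} (hψ : ψ ∈ ibrF hM G)
    (hψB : ibrOf hM B = {ψ}) (hψ1 : ψ 1 = ((m + 1 : ℕ) : ℂ))
    (hreg : ∀ χ ∈ B, pRegularPart p (χ : G → ℂ) = ψ) :
    ∃ (f : MonoidAlgebra (Res M) G) (a b : Fin (m + 1) → MonoidAlgebra (Res M) G),
      f * f = f ∧ f * ridem hB = f ∧
      (∀ r, ∃ c, (∀ s, c * s = s * c) ∧ f * r * f = c * f) ∧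
      (∀ r, r * ridem hB = r → ∃ z : Fin (m + 1) × Fin (m + 1) → MonoidAlgebra (Res M) G,
        (∀ x s, z x * s = s * z x) ∧ r = ∑ x, z x * (a x.1 * f * b x.2)) ∧
      ∃ E : OG M G, redO M G E = f ∧ ∀ χ : IrrCharacter G,
        (χ ∈ B → ∑ x, (E.coeff x : ℂ) * (χ : G → ℂ) x = 1) ∧
        (χ ∉ B → ∑ x, (E.coeff x : ℂ) * (χ : G → ℂ) x = 0) := by
  classical
  have : Fact p.Prime := ⟨hM.1⟩
  have : CharP (Res M) p := res_charP M hM
  obtain ⟨j, σ', hσ', hσψ'⟩ := mem_ibrF.mp hψ
  obtain ⟨σ, hσ, hσψ⟩ : ∃ σ : Representation (Res M) G (Fin (m + 1) → Res M),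
      σ.IsIrreducible ∧ brauerFun p M σ = ψ := by
    obtain rfl : j = m + 1 := by
      have h := brauerFun_one σ' hM
      rw [hσψ', hψ1] at h
      simp only [Module.finrank_fintype_fun_eq_card, Fintype.card_fin] at h
      exact_mod_cast h.symm
    exact ⟨σ', hσ', hσψ'⟩
  have hsur := asAlgebraHom_range_eq_top σ hσ
  choose ae hae using fun i k : Fin (m + 1) => hsur (eU M i k)
  choose aO haO using fun i k => redO_surjective (M := M) (G := G) (ae i k)
  choose n A hA using fun χ : IrrCharacter G => exists_integral_rep hM χ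
  set ē := ridem hB with hē
  set EO := toOG (idem hB) with hEO
  have hEOred : redO M G EO = ē := redO_toOG _
  have ha : idem hB * idem hB = idem hB := idem_mul_self hB
  have hēid : ē * ē = ē := ridem_mul_self hB
  have hēc : ∀ s, ē * s = s * ē := fun s => red_commute (idem hB) s
  -- irreducible representations
  have hirr : ∀ {i : ℕ} (τ : Representation (Res M) G (Fin i → Res M)), τ.IsIrreducible →
      (brauerFun p M τ = ψ → ∃ e : (Fin i → Res M) ≃ₗ[Res M] (Fin (m + 1) → Res M),
        (∀ r, σ.asAlgebraHom r = e.conj (τ.asAlgebraHom r)) ∧ τ.asAlgebraHom ē = 1) ∧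
      (brauerFun p M τ ≠ ψ → τ.asAlgebraHom ē = 0) := by
    intro i τ hτ
    have h := acts_ridem hM hB hτ
    rw [hψB] at h
    refine ⟨fun he => ?_, fun hne => ?_⟩
    · obtain ⟨e, he'⟩ := exists_iso_of_brauerFun_eq hM hτ hσ (he.trans hσψ.symm)
      refine ⟨e, asAlgebraHom_conj e he', LinearMap.ext fun v => ?_⟩
      rw [h v, if_pos (Finset.mem_singleton.mpr he), one_smul, Module.End.one_apply]
    · refine LinearMap.ext fun v => ?_
      rw [h v, if_neg (fun hm => hne (Finset.mem_singleton.mp hm)), zero_smul, LinearMap.zero_apply]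
  have hσē : σ.asAlgebraHom ē = 1 := by
    obtain ⟨e, -, he⟩ := (hirr σ hσ).1 hσψ
    exact he
  -- the characters of the block
  have hpoly : ∀ χ : IrrCharacter G, χ ∈ B → ∃ q : Polynomial (locRing M),
      q.map (res M) = Polynomial.X ^ m ∧
      ∀ y : OG M G, RankOne (repO (A χ) (Polynomial.aeval (aO 0 0) q * y)) := by
    intro χ hχ
    have hn : n χ = m + 1 := by
      have h := hA χ 1
      rw [map_one, Matrix.trace_one, Fintype.card_fin,
        CfsgLib.Blocks.charDegree_eq (CfsgLib.Char.isCharacter_of_isIrr χ.2), hd χ hχ] at h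
      exact_mod_cast h
    obtain ⟨A', hA', hback⟩ : ∃ A' : G →* Matrix (Fin (m + 1)) (Fin (m + 1)) (locRing M),
        (∀ g, (((A' g).trace : locRing M) : ℂ) = (χ : G → ℂ) g) ∧
        ∀ x : OG M G, RankOne (repO A' x) → RankOne (repO (A χ) x) := by
      have key : ∀ (k : ℕ) (hk : k = m + 1) (B : G →* Matrix (Fin k) (Fin k) (locRing M)),
          (∀ g, (((B g).trace : locRing M) : ℂ) = (χ : G → ℂ) g) →
          ∃ A' : G →* Matrix (Fin (m + 1)) (Fin (m + 1)) (locRing M),
            (∀ g, (((A' g).trace : locRing M) : ℂ) = (χ : G → ℂ) g) ∧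
            ∀ x : OG M G, RankOne (repO A' x) → RankOne (repO B x) := by
        intro k hk B hB
        subst hk
        exact ⟨B, hB, fun x h => h⟩
      exact key _ hn (A χ) (hA χ)
    have hbr : brauerFun p M (redRep A') = ψ := by
      rw [← hreg χ hχ]
      funext g
      rw [pRegularPart_apply]
      split_ifs with hg
      · rw [brauerFun_singular _ hg]
      · rw [brauerFun_redRep hM A' hg, hA']
    obtain ⟨e, he, -⟩ := (hirr _ (irreducible_of_brauerFun hM _ (hbr ▸ hψ))).1 hbr
    set Bm := MonoidAlgebra.lift (locRing M) (Matrix (Fin (m + 1)) (Fin (m + 1)) (locRing M)) G A'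
      (aO 0 0) with hBm
    have hBchar : Bm.charpoly.map (res M) = (Polynomial.X - 1) * Polynomial.X ^ m := by
      have e1 : Bm.map (res M) = repR A' (ae 0 0) := by rw [hBm, ← repR_redO, haO]
      rw [← Matrix.charpoly_map, e1, ← Matrix.charpoly_toLin', toLin'_repR,
        ← LinearEquiv.charpoly_conj e, ← he, hae, charpoly_eU]
    obtain ⟨q, hq, hq'⟩ := exists_rankOne_poly Bm hBchar
    refine ⟨q, hq, fun y => hback _ ?_⟩
    show RankOne ((MonoidAlgebra.lift (locRing M) (Matrix (Fin (m + 1)) (Fin (m + 1)) (locRing M)) G A'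
      (Polynomial.aeval (aO 0 0) q * y)).map (locRing M).subtype)
    rw [map_mul, ← Polynomial.aeval_algHom_apply]
    exact hq' _
  choose q hq hq' using hpoly
  let Q : Polynomial (locRing M) := ∏ χ : {χ : IrrCharacter G // χ ∈ B}, q χ.1 χ.2
  set F₀ : OG M G := Polynomial.aeval (aO 0 0) Q * aO 0 0 * EO with hF₀
  have hF₀rank : ∀ χ, RankOne (repO (A χ) F₀) := by
    intro χ
    by_cases h1 : χ ∈ B
    · rw [hF₀, show Q = q χ h1 * ∏ χ' ∈ Finset.univ.erase (⟨χ, h1⟩ : {χ // χ ∈ B}), q χ'.1 χ'.2 from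
        (Finset.mul_prod_erase Finset.univ _ (Finset.mem_univ (⟨χ, h1⟩ : {χ // χ ∈ B}))).symm,
        map_mul (Polynomial.aeval (aO 0 0)), mul_assoc, mul_assoc]
      exact hq' χ h1 _
    · rw [hF₀, map_mul, (repO_toOG (A χ) (hA χ) ha).1 (by rw [zomega_idem hB χ, if_neg h1]), mul_zero]
      exact rankOne_zero
  set f₀ := redO M G F₀ with hf₀
  obtain ⟨N, hN⟩ : ∃ N : ℕ, Q.map (res M) = Polynomial.X ^ N := by
    refine ⟨∑ _χ : {χ : IrrCharacter G // χ ∈ B}, m, ?_⟩
    rw [Polynomial.map_prod, Finset.prod_congr rfl fun χ _ => hq χ.1 χ.2, Finset.prod_pow_eq_pow_sum]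
  have hf₀e : f₀ = ae 0 0 ^ N * ae 0 0 * ē := by
    rw [hf₀, hF₀, map_mul, map_mul, haO, hEOred]
    congr 2
    rw [Polynomial.aeval_def, Polynomial.hom_eval₂, haO]
    have e : (redO M G).comp (algebraMap (locRing M) (OG M G)) =
        (algebraMap (Res M) (MonoidAlgebra (Res M) G)).comp (res M) := by
      ext c : 1
      simp [redO]
    rw [e, ← Polynomial.eval₂_map, hN, Polynomial.eval₂_X_pow]
  have hpowU : ∀ k : ℕ, eU M (0 : Fin (m + 1)) 0 ^ (k + 1) = eU M 0 0 := by
    intro k
    induction k with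
    | zero => rw [pow_one]
    | succ k ih => rw [pow_succ, ih, eU_mul, if_pos rfl]
  have hσf₀ : σ.asAlgebraHom f₀ = eU M 0 0 := by
    rw [hf₀e, map_mul, map_mul, map_pow, hσē, mul_one, hae, ← pow_succ, hpowU]
  have hkill : ∀ r : MonoidAlgebra (Res M) G, r * ē = r → σ.asAlgebraHom r = 0 → IsNilpotent r := by
    intro r hr h0
    refine isNilpotent_of_forall_irreducible fun i τ hτ => ?_
    by_cases hb : brauerFun p M τ = ψ
    · obtain ⟨e, he, -⟩ := (hirr τ hτ).1 hb
      rw [he] at h0
      exact conj_eq_zero e h0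
    · rw [← hr, map_mul, (hirr τ hτ).2 hb, mul_zero]
  have hf₀ē : f₀ * ē = f₀ := by rw [hf₀e, mul_assoc, hēid]
  -- an integral idempotent
  have hf₀0 : ∀ χ, χ ∉ B → repO (A χ) F₀ = 0 := fun χ h1 => by
    rw [hF₀, map_mul, (repO_toOG (A χ) (hA χ) ha).1 (by rw [zomega_idem hB χ, if_neg h1]), mul_zero]
  let L : ∀ χ : IrrCharacter G, OG M G →ₐ[locRing M] Matrix (Fin (n χ)) (Fin (n χ)) (locRing M) :=
    fun χ => MonoidAlgebra.lift (locRing M) (Matrix (Fin (n χ)) (Fin (n χ)) (locRing M)) G (A χ)
  have hrepL : ∀ χ x, repO (A χ) x = (L χ x).map (locRing M).subtype := fun _ _ => rfl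
  have hlam : ∀ χ, χ ∈ B → ∃ l : locRing M, res M l = 1 ∧ L χ F₀ * L χ F₀ = l • L χ F₀ ∧ L χ F₀ ≠ 0 := by
    intro χ hχ
    have hbr : brauerFun p M (redRep (A χ)) = ψ := by
      rw [← hreg χ hχ]
      funext g
      rw [pRegularPart_apply]
      split_ifs with hg
      · rw [brauerFun_singular _ hg]
      · rw [brauerFun_redRep hM (A χ) hg, hA]
    obtain ⟨e, he, -⟩ := (hirr _ (irreducible_of_brauerFun hM _ (hbr ▸ hψ))).1 hbr
    set N₀ := repR (A χ) f₀ with hN₀
    have hNe : e.conj (Matrix.toLin' N₀) = eU M 0 0 := by rw [hN₀, toLin'_repR, ← he, hσf₀]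
    have hN0 : N₀ ≠ 0 := fun h => by
      have := congrArg (LinearMap.trace (Res M) _) hNe
      rw [h, map_zero, map_zero, map_zero, trace_eU] at this
      exact zero_ne_one this
    have hNN : N₀ * N₀ = N₀ := Matrix.toLin'.injective (e.conj.injective (by
      rw [Matrix.toLin'_mul, LinearEquiv.conj_comp, hNe, ← Module.End.mul_eq_comp, eU_mul, if_pos rfl]))
    obtain ⟨i, k, hik⟩ : ∃ i k, N₀ i k ≠ 0 := by
      by_contra hall
      push Not at hall
      exact hN0 (Matrix.ext hall)
    have hred : (L χ F₀).map (res M) = N₀ := (repR_redO (A χ) F₀).symm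
    obtain ⟨v, hv⟩ := ((isUnit_iff_res_ne_zero M (L χ F₀ i k)).mpr (by
      rw [← hred] at hik; exact hik)).exists_right_inv
    obtain ⟨w, hw⟩ := hF₀rank χ 1
    rw [mul_one, hrepL, ← Matrix.map_mul] at hw
    set l := (L χ F₀ * L χ F₀) i k * v with hl
    have hwl : w = (l : ℂ) := by
      have h := congrFun (congrFun hw i) k
      rw [Matrix.smul_apply, Matrix.map_apply, Matrix.map_apply, smul_eq_mul] at h
      have hvC : (L χ F₀ i k : ℂ) * (v : ℂ) = 1 := by exact_mod_cast congrArg Subtype.val hv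
      calc w = w * ((L χ F₀ i k : ℂ) * (v : ℂ)) := by rw [hvC, mul_one]
        _ = ((L χ F₀ * L χ F₀) i k : ℂ) * (v : ℂ) := by rw [← mul_assoc]; exact congrArg (· * (v : ℂ)) h.symm
        _ = (l : ℂ) := by rw [hl]; rfl
    have heq : L χ F₀ * L χ F₀ = l • L χ F₀ := by
      ext a c
      have h := congrFun (congrFun hw a) c
      rw [hwl] at h
      exact h
    refine ⟨l, ?_, heq, fun h => hN0 (by rw [← hred, h, Matrix.map_zero _ (map_zero _)])⟩
    have h := congrArg (fun X => (X.map (res M)) i k) heq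
    simp only [Matrix.map_apply, Matrix.smul_apply, smul_eq_mul, map_mul] at h -- Matrix.map_apply, Matrix.smul_apply, smul_eq_mul, map_mul] at h
    have hik' : res M (L χ F₀ i k) = N₀ i k := congrFun (congrFun hred i) k
    have hsq : res M ((L χ F₀ * L χ F₀) i k) = N₀ i k := by
      rw [show res M ((L χ F₀ * L χ F₀) i k) = ((L χ F₀ * L χ F₀).map (res M)) i k from rfl,
        Matrix.map_mul, hred, hNN]
    rw [hik', hsq] at h
    exact (mul_eq_right₀ hik).mp h.symm
  choose lam hlam1 hlam2 hlam3 using hlam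
  set Pl : Polynomial (locRing M) :=
    ∏ χ : {χ : IrrCharacter G // χ ∈ B}, (Polynomial.X - Polynomial.C (lam χ.1 χ.2)) with hPl
  obtain ⟨c, hc⟩ : ∃ c, Pl.eval 0 * c = 1 := ((isUnit_iff_res_ne_zero M _).mpr (by
    rw [hPl, Polynomial.eval_prod, map_prod, Finset.prod_ne_zero_iff]
    intro χ _
    simp [hlam1])).exists_right_inv
  obtain ⟨g, hg⟩ : Polynomial.X ∣ 1 - Polynomial.C c * Pl := by
    rw [Polynomial.X_dvd_iff, Polynomial.coeff_zero_eq_eval_zero, Polynomial.eval_sub, Polynomial.eval_one,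
      Polynomial.eval_mul, Polynomial.eval_C, mul_comm, hc, sub_self]
  have hgl : ∀ χ (h : χ ∈ B), lam χ h * g.eval (lam χ h) = 1 := fun χ h => by
    have h2 := congrArg (Polynomial.eval (lam χ h)) hg
    rw [Polynomial.eval_mul, Polynomial.eval_X, Polynomial.eval_sub, Polynomial.eval_one,
      Polynomial.eval_mul, Polynomial.eval_C, hPl, Polynomial.eval_prod,
      Finset.prod_eq_zero (Finset.mem_univ (⟨χ, h⟩ : {χ : IrrCharacter G // χ ∈ B})) (by simp),
      mul_zero, sub_zero] at h2
    exact h2.symm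
  set F := F₀ * Polynomial.aeval F₀ g with hF
  have hLF : ∀ χ (h : χ ∈ B), L χ F = g.eval (lam χ h) • L χ F₀ := fun χ h => by
    rw [hF, map_mul, ← Polynomial.aeval_algHom_apply, mul_aeval_of_sq (hlam2 χ h)]
  have hFrank : ∀ χ, RankOne (repO (A χ) F) := fun χ => by
    rw [hF, map_mul]
    exact rankOne_mul (hF₀rank χ) _
  have hFF : ∀ χ (h : χ ∈ B), L χ F * L χ F = L χ F ∧ L χ F ≠ 0 := fun χ h => by
    refine ⟨?_, fun h0 => hlam3 χ h ?_⟩
    · rw [hLF χ h, smul_mul_assoc, mul_smul_comm, hlam2 χ h, smul_smul, smul_smul]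
      congr 1
      linear_combination g.eval (lam χ h) * hgl χ h
    · rw [← one_smul (locRing M) (L χ F₀), ← hgl χ h, mul_smul, ← hLF χ h, h0, smul_zero]
  have hFoff : ∀ χ, χ ∉ B → repO (A χ) F = 0 := fun χ h => by rw [hF, map_mul, hf₀0 χ h, zero_mul]
  have hFid : F * F = F := sub_eq_zero.mp (eq_zero_of_repO n A hA fun χ => by
    rw [map_sub, sub_eq_zero]
    by_cases h : χ ∈ B
    · rw [map_mul, hrepL, ← Matrix.map_mul, (hFF χ h).1]
    · rw [map_mul, hFoff χ h, zero_mul])
  set f := redO M G F with hf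
  have hff : f * f = f := by rw [hf, ← map_mul, hFid]
  have hfpoly : f = f₀ * Polynomial.aeval f₀ (g.map (res M)) := by
    rw [hf, hF, map_mul, hf₀, Polynomial.aeval_def, Polynomial.aeval_def, Polynomial.hom_eval₂]
    have e : (redO M G).comp (algebraMap (locRing M) (OG M G)) =
        (algebraMap (Res M) (MonoidAlgebra (Res M) G)).comp (res M) := by
      ext c : 1
      simp [redO]
    rw [e, ← Polynomial.eval₂_map]
  have hfē : f * ē = f := by
    rw [hfpoly, mul_assoc, ← hēc, ← mul_assoc, hf₀ē]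
  have hσf : σ.asAlgebraHom f = eU M 0 0 := by
    obtain ⟨χ₀, hχ₀⟩ := IsPBlock.nonempty hB
    have h1 : (g.map (res M)).eval 1 = 1 := by
      have h := congrArg (res M) (hgl χ₀ hχ₀)
      rw [map_mul, hlam1, one_mul, map_one] at h
      rw [← hlam1 χ₀ hχ₀, Polynomial.eval_map, Polynomial.eval₂_hom, h]
      exact (hlam1 χ₀ hχ₀).symm
    rw [hfpoly, map_mul, ← Polynomial.aeval_algHom_apply, hσf₀,
      mul_aeval_of_sq (w := (1 : Res M)) (by rw [eU_mul, if_pos rfl, one_smul]), h1, one_smul]
  -- the unit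
  set a := fun i => ae i 0 with ha'
  set b := fun i => ae 0 i with hb'
  set Y := unitSum f a b with hY
  have hYe : Y * ē = Y := by
    rw [hY, unitSum, Finset.sum_mul]
    refine Finset.sum_congr rfl fun i _ => ?_
    calc a i * f * b i * ē = a i * (f * ē) * b i := by
          rw [mul_assoc, ← hēc (b i)]; simp only [mul_assoc]
      _ = _ := by rw [hfē]
  have hnil : IsNilpotent (ē - Y) := hkill _ (by rw [sub_mul, hēid, hYe]) (by
    rw [map_sub, hσē, hY, unitSum, map_sum, ← sum_eU, sub_eq_zero]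
    refine Finset.sum_congr rfl fun i _ => ?_
    simp only [a, b, map_mul, hσf, hae, eU_mul, if_pos])
  obtain ⟨u, hu⟩ := IsNilpotent.isUnit_one_sub hnil
  have hYu : Y = ē * (u : MonoidAlgebra (Res M) G) := by
    rw [hu, mul_sub, mul_one, mul_sub, hēid, hēc Y, hYe, sub_sub_cancel]
  set W := ē * ((u⁻¹ : (MonoidAlgebra (Res M) G)ˣ) : MonoidAlgebra (Res M) G) with hW
  have hYW : Y * W = ē := by
    rw [hYu, hW, mul_assoc, ← mul_assoc (u : MonoidAlgebra (Res M) G), ← hēc, mul_assoc, Units.mul_inv,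
      mul_one, hēid]
  have hWY : W * Y = ē := by
    rw [hYu, hW, mul_assoc, ← mul_assoc ((u⁻¹ : (MonoidAlgebra (Res M) G)ˣ) : MonoidAlgebra (Res M) G),
      ← hēc, mul_assoc, Units.inv_mul, mul_one, hēid]
  have hWe : W * ē = W := by
    rw [hW, mul_assoc, ← hēc, ← mul_assoc, hēid]
  obtain ⟨hz1, hz2⟩ := identities_of_rankOne n A hA (fun i => aO i 0) (fun i => aO 0 i) hFrank
  have hz3 := identity_three n A hA (fun i => aO i 0) (fun i => aO 0 i) hFrank
  have ea : (redO M G ∘ fun i => aO i 0) = a := funext fun i => haO i 0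
  have eb : (redO M G ∘ fun i => aO 0 i) = b := funext fun i => haO 0 i
  rw [ea, eb, ← hf] at hz1 hz2 hz3
  refine ⟨f, a, b, hff, hfē, fun r => ⟨traceMap f a b r * W,
    fun s => central_traceMap hēc hfē hWe hYW hz1 r s, ?_⟩, fun r hr => ?_, F, rfl, fun χ => ?_⟩
  · have hc := central_traceMap hēc hfē hWe hYW hz1 r
    calc f * r * f = ē * (f * r * f) := by rw [hēc, mul_assoc (f * r), hfē]
      _ = W * (Y * (f * r * f)) := by rw [← mul_assoc W Y, hWY]
      _ = W * (traceMap f a b r * f) := by rw [hz3 r]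
      _ = traceMap f a b r * W * f := by
        have h1 : W * traceMap f a b r = traceMap f a b r * W := by
          have h2 := hz1 r 1
          rw [mul_one, mul_one] at h2
          have hzE : traceMap f a b r * ē = traceMap f a b r := by
            rw [traceMap, Finset.sum_mul]
            refine Finset.sum_congr rfl fun k _ => ?_
            calc a k * (f * r * f) * b k * ē = a k * (f * r * (f * ē)) * b k := by
                  rw [mul_assoc, ← hēc (b k)]; simp only [mul_assoc]
              _ = a k * (f * r * f) * b k := by rw [hfē]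
          calc W * traceMap f a b r = W * (traceMap f a b r * Y) * W := by
                rw [mul_assoc W, mul_assoc (traceMap f a b r), hYW, hzE]
            _ = W * (Y * traceMap f a b r) * W := by rw [h2]
            _ = ē * traceMap f a b r * W := by rw [← hWY]; simp only [mul_assoc]
            _ = traceMap f a b r * W := by rw [hēc, hzE]
        rw [← mul_assoc, h1]
  · obtain ⟨z, hzc, -, hsum⟩ := decomp_of_identities hēc hfē hWe hYW hWY hz1 hz2 hr
    exact ⟨z, hzc, hsum⟩
  · have hsum : ∑ x, (F.coeff x : ℂ) * (χ : G → ℂ) x = (repO (A χ) F).trace := by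
      rw [repO_eq_sum, Matrix.trace_sum]
      refine Finset.sum_congr rfl fun x _ => ?_
      rw [Matrix.trace_smul, smul_eq_mul, ← hA χ x]
      congr 1
      exact AddMonoidHom.map_trace (locRing M).subtype.toAddMonoidHom (A χ x)
    rw [hsum]
    refine ⟨fun h => trace_of_rankOne (hFrank χ) ?_ fun h0 => (hFF χ h).2 ?_, fun h => ?_⟩
    · rw [← map_mul, hFid]
    · rw [hrepL] at h0
      exact Matrix.map_injective Subtype.val_injective (h0.trans (Matrix.map_zero _ (map_zero (locRing M).subtype)).symm)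
    · rw [hFoff χ h, Matrix.trace_zero]

end CfsgLib.CharBlocks.EqualAbelian
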