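import Cfsg.Agent.Lib.CharBlocks.EqualAbelian.Inject
import Cfsg.Agent.Lib.CharBlocks.EqualAbelian.Dim
import Cfsg.Agent.Lib.BlockArith.InertialOne
import Cfsg.Agent.Lib.BrauerPairs.SubsectionCount

/-!
# Equal degrees and abelian defect: the inertial index is one

* `card_local`: the block of the centraliser has as many characters as the defect group;
* `stab_le_cen`: the stabiliser of a maximal pair centralises the defect group;
* `nilpotent_of_stab_le_cen`: hence the block is nilpotent.
-/

set_option autoImplicit false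
set_option linter.unusedSectionVars false

noncomputable section

namespace CfsgLib.CharBlocks.EqualAbelian

open Cfsg CfsgLib.Blocks CfsgLib.BrauerPairs

attribute [local instance] CfsgLib.Blocks.resField
set_option synthInstance.maxHeartbeats 200000

universe u

variable {M : Ideal AlgInt} [M.IsMaximal] {G : Type u} [Group G] [Fintype G] {p : ℕ}

/-- A block whose defect group is central has as many characters as its defect group. -/
theorem card_of_central (hM : IsPModular p M) {B : Set (IrrCharacter G)} (hB : IsPBlock M B)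
    {Z : Subgroup G} (hD : IsDefectGroup p M B Z) (hZ : Z ≤ Subgroup.center G) :
    Nat.card B = Nat.card Z := by
  have : Fact p.Prime := ⟨hM.1⟩
  rw [card_defectGroup hM hB hD]
  refine (inertOne_counts hM _ G B rfl hB fun P e hmax => ?_).2.1
  obtain ⟨x, hx⟩ := defectGroups_conj hM hB (isDefectGroup_of_maximal hM hmax) hD
  have hP : P ≤ Subgroup.center G := by
    intro y hy
    have h1 : x * y * x⁻¹ ∈ Z := by rw [← hx]; exact ⟨y, hy, rfl⟩
    have h2 := Subgroup.mem_center_iff.mp (hZ h1) x
    rw [show y = x * y * x⁻¹ by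
      calc y = x⁻¹ * (x * y * x⁻¹ * x) := by group
        _ = x⁻¹ * (x * (x * y * x⁻¹)) := by rw [h2]
        _ = x * y * x⁻¹ := by group]
    exact hZ h1
  refine ⟨fun a ha b _ => (Subgroup.mem_center_iff.mp (hP ha) b).symm, fun y _ => ?_⟩
  exact Subgroup.mem_centralizer_iff.mpr fun q hq => (Subgroup.mem_center_iff.mp (hP hq) y).symm

/-- A nilpotency criterion. -/
theorem nilpotent_of_stab_le_cen (hM : IsPModular p M) {B : Set (IrrCharacter G)} {D : Subgroup G}
    {e : Set (IrrCharacter (Cen D))} (hmax : IsMaximalBrauerPair p M B D e)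
    (hab : ∀ x ∈ D, ∀ y ∈ D, x * y = y * x) (hT : stab M D e ≤ Cen D) : IsNilpotentBlock p M B := by
  have : Fact p.Prime := ⟨hM.1⟩
  refine ⟨hmax.1.2.1, fun Q f hQ x hxn hxs _ => ?_⟩
  obtain ⟨g, hg⟩ := exists_conj_le_maximal hM (a := ⟨Q, f⟩) (b := ⟨D, e⟩) hmax hQ
  have hx : cjPair x (⟨Q, f⟩ : BrauerPairIdx G) = ⟨Q, f⟩ :=
    pair_ext (M := M) (isBrauerPair_cjPair x (a := ⟨Q, f⟩) hQ.1).2 hQ.1.2
      (map_conj_eq_self hxn)
      (by rw [pid_cjPair]; exact ((stabilizesBlock_iff hQ.1.2).mp hxs).2)
  have hy : cjPair (g * x * g⁻¹) (cjPair g (⟨Q, f⟩ : BrauerPairIdx G)) = cjPair g ⟨Q, f⟩ :=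
    cjPair_conj hQ.1 hx
  generalize hd : cjPair g (⟨Q, f⟩ : BrauerPairIdx G) = a at hg hy
  obtain ⟨aQ, af⟩ := a
  obtain ⟨t, ht, hts⟩ := exists_cen_mul_map hM hmax hab hg hg hy
  have haD : aQ ≤ D := subgroup_le (a := ⟨aQ, af⟩) (b := ⟨D, e⟩) hg
  have h1 : g * x * g⁻¹ ∈ Cen aQ := by
    have h2 := centralizer_anti haD (hT hts)
    simpa using Subgroup.mul_mem _ (Subgroup.inv_mem _ ht) h2
  have h3 : Q.map (MulAut.conj g).toMonoidHom = aQ := congrArg Sigma.fst hd
  subst h3
  have h4 := mem_centralizer_map_conj.mp h1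
  simpa [mul_assoc] using h4

section local_

variable {D : Subgroup G} {e : Set (IrrCharacter (Cen D))}

theorem emb_single (H : Subgroup G) (c : H) (r : Res M) :
    emb H (MonoidAlgebra.single c r) = MonoidAlgebra.single (c : G) r :=
  MonoidAlgebra.mapDomain_single

open Classical in
set_option maxHeartbeats 800000 in
/-- **The Brauer image in the block algebra of a maximal pair.** -/
theorem exists_coordinates (hM : IsPModular p M) (hDp : IsPGroup p D)
    (hab : ∀ x ∈ D, ∀ y ∈ D, x * y = y * x) [Fintype (Cen D)] [Fintype D] (he : IsPBlock M e)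
    (hcard : Nat.card e = Nat.card D) :
    ∃ h0 : G,
      (∀ u ∈ D, ∀ v ∈ D, (MonoidAlgebra.single u 1 * gidem M (Cen D) e : KG M G).coeff (v * h0) =
        if u = v then (gidem M (Cen D) e).coeff h0 else 0) ∧
      (gidem M (Cen D) e).coeff h0 ≠ 0 ∧
      ∀ z : KG M G, IsFixed (Cen D) z → ∃ c : D → Res M,
        br D z * gidem M (Cen D) e =
          ∑ u : D, c u • (MonoidAlgebra.single (u : G) 1 * gidem M (Cen D) e) := by
  classical
  have : Fact p.Prime := ⟨hM.1⟩
  have hDC : ∀ u : D, (u : G) ∈ Cen D := fun u =>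
    Subgroup.mem_centralizer_iff.mpr fun q hq => hab q hq u u.2
  set ι : D → Cen D := fun u => ⟨u, hDC u⟩ with hι
  have hcen : ∀ (u : D) (c : Cen D), c * ι u = ι u * c := fun u c =>
    Subtype.ext (Subgroup.mem_centralizer_iff.mp c.2 u u.2).symm
  obtain ⟨h, hh⟩ : ∃ h : Cen D, (ridem he).coeff h ≠ 0 := by
    by_contra hall
    push Not at hall
    exact ridem_ne_zero he (ext_coeff fun g => by simp [hall g])
  have hreg : ¬ p ∣ orderOf h := fun hd => hh (by
    rw [ridem, coeff_red]; exact rcoeff_idem_singular hM he hd)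
  have hsing : ∀ w : D, (w : G) ≠ 1 → (ridem he).coeff (ι w * h) = 0 := by
    intro w hw
    rw [ridem, coeff_red]
    refine rcoeff_idem_singular hM he ?_
    have hord : orderOf (ι w) = orderOf (w : G) := (Subgroup.orderOf_coe (ι w)).symm
    obtain ⟨k, hk⟩ := IsPGroup.iff_orderOf.mp hDp w
    rw [← Subgroup.orderOf_coe] at hk
    have hk0 : k ≠ 0 := fun h0 => hw (orderOf_eq_one_iff.mp (by rw [hk, h0, pow_zero]))
    rw [Commute.orderOf_mul_eq_mul_orderOf_of_coprime (show Commute (ι w) h from (hcen w h).symm) (by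
      rw [hord, hk]
      exact ((hM.1.coprime_iff_not_dvd.mpr hreg).pow_left k)), hord, hk]
    exact dvd_mul_of_dvd_left (dvd_pow_self p hk0) _
  have hcoef : ∀ u v : D, (MonoidAlgebra.single (ι u) 1 * ridem he : KG M (Cen D)).coeff (ι v * h) =
      if u = v then (ridem he).coeff h else 0 := by
    intro u v
    rw [coeff_mul_eq_sum, Finset.sum_eq_single (ι u) (fun b _ hb => by simp [Ne.symm hb])
      (fun hn => absurd (Finset.mem_univ _) hn)]
    rw [MonoidAlgebra.coeff_single, Finsupp.single_eq_same, one_mul, ← mul_assoc]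
    split_ifs with huv
    · subst huv; rw [inv_mul_cancel, one_mul]
    · have e1 : (ι u)⁻¹ * ι v = ι (u⁻¹ * v) := Subtype.ext rfl
      rw [e1]
      refine hsing _ fun h1 => huv ?_
      exact inv_mul_eq_one.mp (Subtype.ext h1)
  -- the elements of `D` give a basis
  have hmem : ∀ u : D, MonoidAlgebra.single (ι u) (1 : Res M) * ridem he ∈ spanBlock he := by
    intro u
    refine mul_ridem_mem_spanBlock he fun g k => ?_
    simp only [MonoidAlgebra.coeff_single, Finsupp.single_apply]
    refine if_congr ⟨fun h1 => ?_, fun h1 => ?_⟩ rfl rfl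
    · calc ι u = k⁻¹ * (k * ι u) := by group
        _ = k⁻¹ * (ι u * k) := by rw [hcen]
        _ = g := by rw [h1]; group
    · rw [← h1, hcen]; group
  have hli : LinearIndependent (Res M) fun u : D => MonoidAlgebra.single (ι u) (1 : Res M) * ridem he := by
    refine Fintype.linearIndependent_iff.mpr fun c hc v => ?_
    have h1 := congrArg (fun z : KG M (Cen D) => z.coeff (ι v * h)) hc
    simp only [MonoidAlgebra.coeff_sum, Finsupp.finsetSum_apply, MonoidAlgebra.coeff_smul,
      Finsupp.smul_apply, hcoef, smul_eq_mul, mul_ite, mul_zero, Finset.sum_ite_eq', Finset.mem_univ,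
      if_true, MonoidAlgebra.coeff_zero, Finsupp.coe_zero, Pi.zero_apply] at h1
    exact (mul_eq_zero.mp h1).resolve_right hh
  have hspan : Submodule.span (Res M) (Set.range fun u : D => MonoidAlgebra.single (ι u) (1 : Res M) * ridem he) =
      spanBlock he := by
    have : Module.Finite (Res M) (spanBlock he) :=
      Module.Finite.span_of_finite _ (Set.finite_range _)
    refine Submodule.eq_of_le_of_finrank_eq (Submodule.span_le.mpr ?_) ?_
    · rintro _ ⟨u, rfl⟩
      exact hmem u
    · rw [finrank_span_eq_card hli, finrank_spanBlock hM he, hcard, Nat.card_eq_fintype_card]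
  have hgid : gidem M (Cen D) e = emb (Cen D) (ridem he) := gidem_eq_emb he
  have hsingle : ∀ u : D, emb (Cen D) (MonoidAlgebra.single (ι u) (1 : Res M) * ridem he) =
      MonoidAlgebra.single (u : G) 1 * gidem M (Cen D) e := fun u => by
    rw [map_mul, emb_single, ← hgid]
  refine ⟨(h : G), fun u hu v hv => ?_, ?_, fun z hz => ?_⟩
  · rw [show (MonoidAlgebra.single u 1 : KG M G) * gidem M (Cen D) e =
      emb (Cen D) (MonoidAlgebra.single (ι ⟨u, hu⟩) (1 : Res M) * ridem he) from (hsingle ⟨u, hu⟩).symm,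
      show v * (h : G) = ((ι ⟨v, hv⟩ * h : Cen D) : G) from rfl, coeff_emb, hcoef, hgid, coeff_emb]
    exact if_congr Subtype.mk_eq_mk rfl rfl
  · rw [hgid, coeff_emb]; exact hh
  · obtain ⟨y, hy, hycl⟩ := (centralIn_br hz).exists_eq_emb
    have h1 := mul_ridem_mem_spanBlock he hycl
    rw [← hspan, Submodule.mem_span_range_iff_exists_fun] at h1
    obtain ⟨c, hc⟩ := h1
    refine ⟨c, ?_⟩
    rw [← hy, hgid, ← map_mul, ← hc, map_sum]
    refine Finset.sum_congr rfl fun u _ => ext_coeff fun g => ?_
    rw [← hgid, ← hsingle, MonoidAlgebra.coeff_smul, Finsupp.smul_apply]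
    by_cases hg : g ∈ Cen D
    · rw [show g = ((⟨g, hg⟩ : Cen D) : G) from rfl, coeff_emb, coeff_emb, MonoidAlgebra.coeff_smul,
        Finsupp.smul_apply]
    · rw [coeff_emb_of_notMem _ _ hg, coeff_emb_of_notMem _ _ hg, smul_zero]

end local_

set_option maxHeartbeats 800000 in
/-- **The inertial index is one.** -/
theorem stab_le_cen (hM : IsPModular p M) {B : Set (IrrCharacter G)} (hB : IsPBlock M B) {m : ℕ}
    (hd : ∀ χ ∈ B, charDegree (χ : G → ℂ) = m + 1)
    (h0 : ∀ χ ∈ B, blockHeight p B (χ : G → ℂ) = 0) {D : Subgroup G} (hD : IsDefectGroup p M B D)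
    (hab : ∀ x ∈ D, ∀ y ∈ D, x * y = y * x) {e : Set (IrrCharacter (Cen D))}
    (hmax : IsMaximalBrauerPair p M B D e) : stab M D e ≤ Cen D := by
  classical
  have : Fact p.Prime := ⟨hM.1⟩
  have := Fintype.ofFinite (Cen D)
  have := Fintype.ofFinite D
  have hDp : IsPGroup p D := CfsgLib.Blocks.IsDefectGroup.isPGroup hD
  have hDC : D ≤ Cen D := fun u hu => Subgroup.mem_centralizer_iff.mpr fun q hq => hab q hq u hu
  have he := hmax.1.1.2
  have hcardC : Nat.card e = Nat.card D := by
    rw [card_of_central hM he (pairs_defect hM hmax hab .refl) ?_]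
    · exact card_subgroupOf' hDC
    · intro u hu
      exact Subgroup.mem_center_iff.mpr fun c =>
        Subtype.ext (Subgroup.mem_centralizer_iff.mp c.2 u hu).symm
  obtain ⟨hh, hcoef, hne, hexp⟩ := exists_coordinates hM hDp hab he hcardC
  intro t ht
  refine Subgroup.mem_centralizer_iff.mpr fun u₀ hu₀ => ?_
  by_contra hmove
  have htD : ∀ u ∈ D, t * u * t⁻¹ ∈ D := fun u hu => (Subgroup.mem_set_normalizer_iff.mp ht.1 u).mp hu
  have hu₁ : t * u₀ * t⁻¹ ≠ u₀ := fun h => hmove (mul_inv_eq_iff_eq_mul.mp h).symm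
  let R := {u : D // (u : G) ≠ t * u₀ * t⁻¹}
  let L : spanBlock hB →ₗ[Res M] (R → Res M) :=
    { toFun := fun z r => (br D (z : KG M G) * gidem M (Cen D) e).coeff ((r.1 : G) * hh)
      map_add' := fun a b => funext fun r => by
        have hb : br D ((a + b : spanBlock hB) : KG M G) = br D (a : KG M G) + br D (b : KG M G) :=
          ext_coeff fun g => by
            rw [Submodule.coe_add, MonoidAlgebra.coeff_add, Finsupp.add_apply, coeff_br, coeff_br,
              coeff_br, MonoidAlgebra.coeff_add, Finsupp.add_apply]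
            split_ifs <;> simp
        rw [Pi.add_apply, hb, add_mul, MonoidAlgebra.coeff_add, Finsupp.add_apply]
      map_smul' := fun c a => funext fun r => by
        have hb : br D ((c • a : spanBlock hB) : KG M G) = c • br D (a : KG M G) :=
          ext_coeff fun g => by
            rw [Submodule.coe_smul, MonoidAlgebra.coeff_smul, Finsupp.smul_apply, coeff_br, coeff_br,
              MonoidAlgebra.coeff_smul, Finsupp.smul_apply]
            split_ifs <;> simp
        rw [RingHom.id_apply, Pi.smul_apply, hb, smul_mul_assoc, MonoidAlgebra.coeff_smul,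
          Finsupp.smul_apply] }
  have hinj : Function.Injective L := by
    rw [← LinearMap.ker_eq_bot, LinearMap.ker_eq_bot']
    intro z hz
    obtain ⟨hzc, hze⟩ := mem_spanBlock_central hB z.2
    refine Subtype.ext (eq_zero_of_br_mul_pid hM hB hd hD hmax hzc hze ?_)
    obtain ⟨c, hc⟩ := hexp (z : KG M G) (isFixed_of_central hzc _)
    set x := br D (z : KG M G) * gidem M (Cen D) e with hx
    have hcv : ∀ v : D, x.coeff ((v : G) * hh) = c v * (gidem M (Cen D) e).coeff hh := by
      intro v
      rw [hc, MonoidAlgebra.coeff_sum, Finsupp.finsetSum_apply, Finset.sum_eq_single v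
        (fun u _ huv => by
          rw [MonoidAlgebra.coeff_smul, Finsupp.smul_apply, hcoef u u.2 v v.2,
            if_neg (fun h => huv (Subtype.ext h)), smul_zero])
        (fun hn => absurd (Finset.mem_univ _) hn),
        MonoidAlgebra.coeff_smul, Finsupp.smul_apply, hcoef v v.2 v v.2, if_pos rfl, smul_eq_mul]
    have hfix : cjA t x = x := by
      rw [hx, map_mul, cjA_br, map_conj_eq_self ht.1, isFixed_of_central hzc ⊤ t trivial]
      exact congrArg _ ht.2
    have hmv : c ⟨t * u₀ * t⁻¹, htD u₀ hu₀⟩ = c ⟨u₀, hu₀⟩ := by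
      have hterm : ∀ u : D, cjA t (c u • (MonoidAlgebra.single (u : G) 1 * gidem M (Cen D) e)) =
          c u • (MonoidAlgebra.single (t * (u : G) * t⁻¹) 1 * gidem M (Cen D) e) := by
        intro u
        have hs : cjA t (MonoidAlgebra.single (u : G) (1 : Res M)) =
            MonoidAlgebra.single (t * (u : G) * t⁻¹) 1 := by
          refine ext_coeff fun g => ?_
          simp only [coeff_cjA, MonoidAlgebra.coeff_single, Finsupp.single_apply]
          refine if_congr ⟨fun h => by rw [h]; group, fun h => by rw [← h]; group⟩ rfl rfl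
        refine ext_coeff fun g => ?_
        rw [coeff_cjA, MonoidAlgebra.coeff_smul, Finsupp.smul_apply, ← coeff_cjA, map_mul, hs,
          show cjA t (gidem M (Cen D) e) = gidem M (Cen D) e from ht.2, MonoidAlgebra.coeff_smul,
          Finsupp.smul_apply]
      have h1 := congrArg (fun y : KG M G => y.coeff (t * u₀ * t⁻¹ * hh)) hfix
      simp only [hcv ⟨t * u₀ * t⁻¹, htD u₀ hu₀⟩] at h1
      rw [hc, map_sum, MonoidAlgebra.coeff_sum, Finsupp.finsetSum_apply, Finset.sum_eq_single (⟨u₀, hu₀⟩ : D)
        (fun u _ hu => by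
          rw [hterm, MonoidAlgebra.coeff_smul, Finsupp.smul_apply,
            hcoef _ (htD u u.2) _ (htD u₀ hu₀), if_neg, smul_zero]
          exact fun h => hu (Subtype.ext (mul_left_cancel (mul_right_cancel h))))
        (fun hn => absurd (Finset.mem_univ _) hn), hterm, MonoidAlgebra.coeff_smul, Finsupp.smul_apply,
        hcoef _ (htD u₀ hu₀) _ (htD u₀ hu₀), if_pos rfl, smul_eq_mul] at h1
      exact (mul_right_cancel₀ hne h1).symm
    have hzero : ∀ v : D, c v = 0 := by
      have hR : ∀ v : D, (v : G) ≠ t * u₀ * t⁻¹ → c v = 0 := fun v hv => by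
        have h1 := congrFun hz ⟨v, hv⟩
        change x.coeff ((v : G) * hh) = 0 at h1
        rw [hcv] at h1
        exact (mul_eq_zero.mp h1).resolve_right hne
      intro v
      by_cases hv : (v : G) = t * u₀ * t⁻¹
      · rw [show v = ⟨t * u₀ * t⁻¹, htD u₀ hu₀⟩ from Subtype.ext hv, hmv]
        exact hR _ (Ne.symm hu₁)
      · exact hR v hv
    rw [hc]
    exact Finset.sum_eq_zero fun u _ => by rw [hzero u, zero_smul]
  have h1 := LinearMap.finrank_le_finrank_of_injective hinj
  rw [finrank_spanBlock hM hB, Module.finrank_fintype_fun_eq_card] at h1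
  have h2 : Fintype.card R < Fintype.card D :=
    Fintype.card_subtype_lt (x := ⟨t * u₀ * t⁻¹, htD u₀ hu₀⟩) (fun h => h rfl)
  have h3 := card_defect_le_card hM hB hd h0
  rw [← card_defectGroup hM hB hD, Nat.card_eq_fintype_card] at h3
  omega

end CfsgLib.CharBlocks.EqualAbelian
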