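import Cfsg.Agent.Lib.CharBlocks.EqualAbelian.Functional
import Cfsg.Agent.Lib.BrauerPairs.Nilpotent

/-!
# The Brauer map is injective on the centre of the block

* `eq_zero_of_br`: a central element of the block killed by the Brauer map of a defect group is zero;
* `eq_zero_of_br_mul_pid`: the same with one pair.
-/

set_option autoImplicit false
set_option linter.unusedSectionVars false

noncomputable section

namespace CfsgLib.CharBlocks.EqualAbelian

open Cfsg CfsgLib.Blocks CfsgLib.Char CfsgLib.BlockArith CfsgLib.Modular CfsgLib.BrauerPairs CfsgLib.CharBlocks.EqualDegree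

attribute [local instance] CfsgLib.Blocks.resField
set_option synthInstance.maxHeartbeats 200000

variable {M : Ideal AlgInt} [M.IsMaximal] {G : Type*} [Group G] [Fintype G] {p : ℕ}

theorem isFixed_of_central {z : KG M G} (hz : ∀ s, z * s = s * z) (S : Subgroup G) : IsFixed S z :=
  isFixed_iff.mpr fun u _ y =>
    (mem_center_iff z).mp (Subsemiring.mem_center_iff.mpr fun s => (hz s).symm) y u

theorem coeff_one_mul_comm (u v : KG M G) : (u * v).coeff 1 = (v * u).coeff 1 := by
  rw [coeff_mul_eq_sum, coeff_mul_eq_sum]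
  exact Fintype.sum_equiv (Equiv.inv G) _ _ fun x => by simp [mul_comm]

set_option maxHeartbeats 400000 in
/-- **Injectivity.** -/
theorem eq_zero_of_br (hM : IsPModular p M) {B : Set (IrrCharacter G)} (hB : IsPBlock M B) {m : ℕ}
    (hd : ∀ χ ∈ B, charDegree (χ : G → ℂ) = m + 1) {D : Subgroup G} (hD : IsDefectGroup p M B D)
    {z : KG M G} (hz : ∀ s, z * s = s * z) (hze : z * ridem hB = z) (hbr : br D z = 0) : z = 0 := by
  classical
  have : Fact p.Prime := ⟨hM.1⟩
  have hDp : IsPGroup p D := CfsgLib.Blocks.IsDefectGroup.isPGroup hD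
  obtain ⟨ψ, hψ, hψB, hψ1, -, hreg⟩ := exists_unique_brauer hM hB hd
  obtain ⟨f, a, b, hff, -, hfrf, hdec, E, hEf, hE⟩ := exists_core hM hB hd hψ hψB hψ1 hreg
  -- orthogonality to every element of the spanning set
  have hkey : ∀ i j, ∀ z' : KG M G, (∀ s, z' * s = s * z') →
      (z * z' * (a i * f * b j)).coeff 1 = 0 := by
    intro i j z' hz'
    obtain ⟨c, hc, hfc⟩ := hfrf (b j * a i)
    have hzz : ∀ s, z * z' * s = s * (z * z') := fun s => by
      rw [mul_assoc, hz', ← mul_assoc, hz, mul_assoc]
    have hzc : ∀ s, z * z' * c * s = s * (z * z' * c) := fun s => by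
      rw [mul_assoc, hc, ← mul_assoc, hzz, mul_assoc]
    have h1 : (z * z' * (a i * f * b j)).coeff 1 = (z * z' * c * f).coeff 1 := by
      calc (z * z' * (a i * f * b j)).coeff 1 = ((z * z' * a i * f) * (f * b j)).coeff 1 := by
            refine congrArg (fun x : KG M G => x.coeff 1) ?_
            calc z * z' * (a i * f * b j) = z * z' * (a i * (f * f) * b j) := by rw [hff]
              _ = _ := by simp only [mul_assoc]
        _ = ((f * b j) * (z * z' * a i * f)).coeff 1 := coeff_one_mul_comm _ _
        _ = (z * z' * (f * (b j * a i) * f)).coeff 1 := by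
            congr 1
            rw [show f * b j * (z * z' * a i * f) = (f * b j * (z * z')) * (a i * f) by simp only [mul_assoc],
              ← hzz]
            simp only [mul_assoc]
        _ = _ := by rw [hfc, mul_assoc (z * z') c f]
    rw [h1, ← hEf]
    refine coeff_one_eq_zero hM hB hd hreg hE hD hzc fun g hg => ?_
    have h2 : br D (z * z' * c) = 0 := by
      rw [mul_assoc, br_mul hM hDp (isFixed_of_central hz D)
        ((isFixed_of_central hz' D).mul (isFixed_of_central hc D)), hbr, zero_mul]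
    have h3 := congrArg (fun x : KG M G => x.coeff g) h2
    simp only [coeff_br, if_pos hg] at h3
    exact h3
  by_contra hne
  obtain ⟨g, hg⟩ : ∃ g, z.coeff g ≠ 0 := by
    by_contra hall
    push Not at hall
    exact hne (ext_coeff fun g => by simp [hall g])
  apply hg
  set r : KG M G := MonoidAlgebra.single g⁻¹ 1 * ridem hB with hr
  have h1 : (z * r).coeff 1 = z.coeff g := by
    rw [hr, ← red_commute (idem hB) (MonoidAlgebra.single g⁻¹ 1), ← mul_assoc]
    show (z * ridem hB * MonoidAlgebra.single g⁻¹ 1).coeff 1 = _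
    rw [hze, coeff_mul_single_inv]
  obtain ⟨zs, hzs, hsum⟩ := hdec r (by rw [hr, mul_assoc, ridem_mul_self])
  rw [← h1, hsum, Finset.mul_sum, MonoidAlgebra.coeff_sum, Finsupp.finsetSum_apply]
  refine Finset.sum_eq_zero fun x _ => ?_
  rw [← mul_assoc]
  exact hkey x.1 x.2 _ (hzs x)

set_option maxHeartbeats 400000 in
/-- Injectivity into the block algebra of one maximal pair. -/
theorem eq_zero_of_br_mul_pid (hM : IsPModular p M) {B : Set (IrrCharacter G)} (hB : IsPBlock M B) {m : ℕ}
    (hd : ∀ χ ∈ B, charDegree (χ : G → ℂ) = m + 1) {D : Subgroup G} (hD : IsDefectGroup p M B D)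
    {e : Set (IrrCharacter (Cen D))} (hmax : IsMaximalBrauerPair p M B D e)
    {z : KG M G} (hz : ∀ s, z * s = s * z) (hze : z * ridem hB = z)
    (hbr : br D z * gidem M (Cen D) e = 0) : z = 0 := by
  classical
  have : Fact p.Prime := ⟨hM.1⟩
  have hDp : IsPGroup p D := CfsgLib.Blocks.IsDefectGroup.isPGroup hD
  refine eq_zero_of_br hM hB hd hD hz hze ?_
  have := Fintype.ofFinite (Blk M (Cen D))
  have hfix := isFixed_of_central hz
  have hzB : br D z = br D z * br D (gidemTop M B) := by
    rw [← br_mul hM hDp (hfix D) (isFixed_gidemTop D B), gidemTop_eq hB, hze]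
  rw [← mul_one (br D z), ← sum_gidem (Cen D), Finset.mul_sum]
  refine Finset.sum_eq_zero fun i _ => ?_
  rcases occurs_cases (centralIn_br (isFixed_gidemTop _ B)) (br_top_idem hM hB hDp) i.2 with hc | hc
  swap
  · rw [hzB, mul_assoc, hc, mul_zero]
  have hof : IsBrauerPairOf p M B D i.1 := (brauerPairOf_iff hM).mpr ⟨⟨hDp, i.2⟩, hB, hc⟩
  obtain ⟨x, hx⟩ := exists_conj_le_maximal hM (a := ⟨D, i.1⟩) (b := ⟨D, e⟩) hmax hof
  have hxD : D.map (MulAut.conj x).toMonoidHom = D :=
    Subgroup.eq_of_le_of_card_ge (subgroup_le hx)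
      (Subgroup.card_map_of_injective (MulEquiv.injective _)).ge
  have hpair := isBrauerPair_cjPair x (a := (⟨D, i.1⟩ : BrauerPairIdx G)) hof.1
  generalize hd' : cjPair x (⟨D, i.1⟩ : BrauerPairIdx G) = d at hx hpair
  have hpid : pid M d = cjA x (gidem M (Cen D) i.1) := by rw [← hd', pid_cjPair]
  have hd1 : d.1 = D := by rw [← hd']; exact hxD
  obtain ⟨dQ, dg⟩ := d
  dsimp at hd1
  subst hd1
  obtain rfl : dg = e := subpair_eq hM hmax.1.1 hx .refl
  have h3 : cjA x (br dQ z * gidem M (Cen dQ) i.1) = 0 := by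
    rw [map_mul, cjA_br, hxD, hfix ⊤ x trivial, ← hpid]
    exact hbr
  exact (cjA x).injective (h3.trans (map_zero _).symm)

end CfsgLib.CharBlocks.EqualAbelian
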