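import Cfsg.Agent.Lib.CharBlocks.EqualAbelian.Brauer
import Cfsg.Agent.Lib.BrauerPairs.Idem
import Cfsg.Agent.Lib.Modular.CountIbr

/-!
# The simple modules of a block with one Brauer character

* `isNilpotent_of_forall_irreducible`: an element killed by all irreducible representations is nilpotent;
* `acts_ridem`: a block idempotent acts on an irreducible representation as one or zero;
* `irreducible_of_brauerFun`: a representation with an irreducible Brauer character is irreducible.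
-/

set_option autoImplicit false
set_option linter.unusedSectionVars false

noncomputable section

namespace CfsgLib.CharBlocks.EqualAbelian

open Cfsg CfsgLib.Blocks CfsgLib.Char CfsgLib.Modular CfsgLib.BrauerPairs

attribute [local instance] CfsgLib.Blocks.resField

variable {M : Ideal AlgInt} [M.IsMaximal] {G : Type*} [Group G] [Fintype G] {p : ℕ}

theorem isNilpotent_asAlgebraHom {r : MonoidAlgebra (Res M) G}
    (hr : ∀ (j : ℕ) (σ : Representation (Res M) G (Fin j → Res M)), σ.IsIrreducible → σ.asAlgebraHom r = 0)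
    (n : ℕ) : ∀ ρ : Representation (Res M) G (Fin n → Res M), IsNilpotent (ρ.asAlgebraHom r) := by
  induction n using Nat.strong_induction_on with
  | _ n ih =>
  intro ρ
  rcases Nat.eq_zero_or_pos n with rfl | hn
  · exact ⟨1, LinearMap.ext fun v => Subsingleton.elim _ _⟩
  have : Nonempty (Fin n) := ⟨⟨0, hn⟩⟩
  by_cases hirr : ρ.IsIrreducible
  · exact ⟨1, by rw [pow_one, hr n ρ hirr]⟩
  obtain ⟨U, hb, ht, hU⟩ := exists_invariant_of_not_irreducible ρ hirr
  obtain ⟨h1, h2⟩ := finrank_sub_lt hb ht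
  rw [Module.finrank_fintype_fun_eq_card, Fintype.card_fin] at h1 h2
  obtain ⟨σ₁, hσ₁⟩ := exists_fin_equiv (subRep ρ U hU)
  obtain ⟨σ₂, hσ₂⟩ := exists_fin_equiv (quotRep ρ U hU)
  obtain ⟨a, ha⟩ := ih _ h1 σ₁
  obtain ⟨b, hb'⟩ := ih _ h2 σ₂
  rw [← map_pow] at ha hb'
  have hsub : ∀ u : U, (subRep ρ U hU).asAlgebraHom (r ^ a) u = 0 := fun u => by
    apply (Module.finBasis (Res M) U).equivFun.injective
    rw [← LinearEquiv.coe_toLinearMap, asAlgebraHom_comm _ hσ₁, ha, LinearMap.zero_apply, map_zero]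
  have hquo : ∀ w : (Fin n → Res M) ⧸ U, (quotRep ρ U hU).asAlgebraHom (r ^ b) w = 0 := fun w => by
    apply (Module.finBasis (Res M) ((Fin n → Res M) ⧸ U)).equivFun.injective
    rw [← LinearEquiv.coe_toLinearMap, asAlgebraHom_comm _ hσ₂, hb', LinearMap.zero_apply, map_zero]
  refine ⟨a + b, LinearMap.ext fun v => ?_⟩
  have hmem : ρ.asAlgebraHom (r ^ b) v ∈ U := by
    rw [← Submodule.Quotient.mk_eq_zero, ← Submodule.mkQ_apply,
      asAlgebraHom_comm (σ := quotRep ρ U hU) U.mkQ (fun g x => rfl), hquo]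
  rw [← map_pow, pow_add, map_mul, Module.End.mul_apply]
  have h3 := asAlgebraHom_comm (ρ := subRep ρ U hU) (σ := ρ) U.subtype (fun g x => rfl) (r ^ a) ⟨_, hmem⟩
  rw [hsub, map_zero] at h3
  exact h3.symm

/-- An element killed by every irreducible representation is nilpotent. -/
theorem isNilpotent_of_forall_irreducible {r : MonoidAlgebra (Res M) G}
    (hr : ∀ (j : ℕ) (σ : Representation (Res M) G (Fin j → Res M)), σ.IsIrreducible → σ.asAlgebraHom r = 0) :
    IsNilpotent r := by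
  have : FiniteDimensional (Res M) (MonoidAlgebra (Res M) G) :=
    Module.Finite.equiv ((MonoidAlgebra.coeffLinearEquiv (Res M)).trans
      (Finsupp.linearEquivFunOnFinite (Res M) (Res M) G)).symm
  let ρ : Representation (Res M) G (MonoidAlgebra (Res M) G) :=
    (Algebra.lmul (Res M) (MonoidAlgebra (Res M) G)).toMonoidHom.comp (MonoidAlgebra.of (Res M) G)
  have hρ : ∀ y v, ρ.asAlgebraHom y v = y * v := by
    intro y v
    induction y using MonoidAlgebra.induction_on with
    | of g => rw [Representation.asAlgebraHom_of]; rfl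
    | add a b iha ihb => rw [map_add, LinearMap.add_apply, iha, ihb, add_mul]
    | smul c a ih => rw [map_smul, LinearMap.smul_apply, ih, smul_mul_assoc]
  obtain ⟨σ, hσ⟩ := exists_fin_equiv ρ
  obtain ⟨N, hN⟩ := isNilpotent_asAlgebraHom hr _ σ
  refine ⟨N, ?_⟩
  rw [← map_pow] at hN
  have h := asAlgebraHom_comm (ρ := ρ) (Module.finBasis (Res M) (MonoidAlgebra (Res M) G)).equivFun.toLinearMap
    hσ (r ^ N) 1
  rw [hρ, mul_one, hN, LinearMap.zero_apply] at h
  exact (LinearEquiv.map_eq_zero_iff _).mp h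

open Classical in
/-- A block idempotent on an irreducible representation. -/
theorem acts_ridem (hM : IsPModular p M) {B : Set (IrrCharacter G)} (hB : IsPBlock M B) {j : ℕ}
    {τ : Representation (Res M) G (Fin j → Res M)} (hτ : τ.IsIrreducible) :
    Acts τ (ridem hB) (if brauerFun p M τ ∈ ibrOf hM B then 1 else 0) := by
  obtain ⟨B', hB', hφ⟩ := exists_ibrOf hM (φ := brauerFun p M τ) (mem_ibrF.mpr ⟨j, τ, hτ, rfl⟩)
  obtain ⟨-, χ, hχ, hd⟩ := mem_ibrOf.mp hφ
  obtain ⟨i, σ, hσ, hσb, ha⟩ := ((exists_ibr_decomp hM χ).choose_spec.2 _ hd).2 B hB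
  obtain ⟨e, he⟩ := exists_iso_of_brauerFun_eq hM hσ hτ hσb
  have h := acts_equiv e he ha
  have hiff : χ ∈ B ↔ brauerFun p M τ ∈ ibrOf hM B := by
    refine ⟨fun h1 => mem_ibrOf.mpr ⟨ibrOf_subset hM B' hφ, χ, h1, hd⟩, fun h1 => ?_⟩
    by_contra hn
    exact hd (dnum_eq_zero_of_notMem hM hB h1 hn)
  rw [if_congr hiff rfl rfl] at h
  exact h

theorem classInner_pim_multiset (hM : IsPModular p M) {φ : G → ℂ} (hφ : φ ∈ ibrF hM G)
    {s : Multiset (G → ℂ)} (hs : ∀ θ ∈ s, θ ∈ ibrF hM G) :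
    classInner s.sum (pim hM φ) = (s.count φ : ℂ) := by
  classical
  induction s using Multiset.induction with
  | empty => simp [classInner_def]
  | cons θ s ih =>
    rw [Multiset.sum_cons, classInner_add_left, ih fun η hη => hs η (Multiset.mem_cons_of_mem hη),
      classInner_pim hM (hs θ (Multiset.mem_cons_self θ s)) hφ, Multiset.count_cons]
    split_ifs with h1 h2 h2
    · push_cast; ring
    · exact absurd h1.symm h2
    · exact absurd h2.symm h1
    · simp

/-- An irreducible Brauer character comes from irreducible representations only. -/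
theorem irreducible_of_brauerFun (hM : IsPModular p M) {n : ℕ}
    (ρ : Representation (Res M) G (Fin n → Res M)) (hρ : brauerFun p M ρ ∈ ibrF hM G) :
    ρ.IsIrreducible := by
  classical
  obtain ⟨m, hm, hm1⟩ := ibr_one_pos hM hρ
  rw [brauerFun_one ρ hM] at hm1
  have hn : n = m := by simpa using hm1
  have : Nonempty (Fin n) := ⟨⟨0, hn ▸ hm⟩⟩
  by_contra hirr
  obtain ⟨U, hb, ht, hU⟩ := exists_invariant_of_not_irreducible ρ hirr
  obtain ⟨s₁, hs₁, hm₁⟩ := exists_constituents (p := p) (subRep ρ U hU)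
  obtain ⟨s₂, hs₂, hm₂⟩ := exists_constituents (p := p) (quotRep ρ U hU)
  have hmem : ∀ θ ∈ s₁ + s₂, θ ∈ ibrF hM G := fun θ hθ => by
    rcases Multiset.mem_add.mp hθ with h | h
    · obtain ⟨j, σ, h1, h2, -⟩ := hm₁ θ h
      exact mem_ibrF.mpr ⟨j, σ, h1, h2⟩
    · obtain ⟨j, σ, h1, h2, -⟩ := hm₂ θ h
      exact mem_ibrF.mpr ⟨j, σ, h1, h2⟩
  have hne : ∀ (s : Multiset (G → ℂ)) (k : ℕ), s.sum 1 = (k : ℂ) → 0 < k → s ≠ 0 := by
    rintro s k h1 h2 rfl
    rw [Multiset.sum_zero, Pi.zero_apply] at h1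
    have : (k : ℕ) = 0 := by exact_mod_cast h1.symm
    omega
  have h1 : s₁ ≠ 0 := hne s₁ _ (by rw [hs₁, brauerFun_one _ hM])
    (Nat.pos_of_ne_zero fun h => hb (Submodule.finrank_eq_zero.mp h))
  have h2 : s₂ ≠ 0 := hne s₂ _ (by rw [hs₂, brauerFun_one _ hM])
    (Nat.pos_of_ne_zero fun h => ht (Submodule.Quotient.subsingleton_iff.mp
      (Module.finrank_zero_iff.mp h)))
  obtain ⟨θ₁, hθ₁⟩ := Multiset.exists_mem_of_ne_zero h1
  obtain ⟨θ₂, hθ₂⟩ := Multiset.exists_mem_of_ne_zero h2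
  have hcount : ∀ φ ∈ s₁ + s₂, (s₁ + s₂).count φ = 1 ∧ φ = brauerFun p M ρ := by
    intro φ hφ
    have h := classInner_pim_multiset hM (hmem φ hφ) hmem
    rw [Multiset.sum_add, hs₁, hs₂, ← brauerFun_eq_add ρ U hU, classInner_pim hM hρ (hmem φ hφ)] at h
    have hpos := Multiset.count_pos.mpr hφ
    split_ifs at h with he
    · exact ⟨by exact_mod_cast h.symm, he.symm⟩
    · have h0 : (s₁ + s₂).count φ = 0 := by exact_mod_cast h.symm
      omega
  have e1 := hcount θ₁ (Multiset.mem_add.mpr (Or.inl hθ₁))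
  have e2 := hcount θ₂ (Multiset.mem_add.mpr (Or.inr hθ₂))
  have he : θ₂ = θ₁ := e2.2.trans e1.2.symm
  subst he
  have := e1.1
  rw [Multiset.count_add] at this
  have := Multiset.count_pos.mpr hθ₁
  have := Multiset.count_pos.mpr hθ₂
  omega

end CfsgLib.CharBlocks.EqualAbelian
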